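import Cfsg.Prelude.Def_CaseTheorems
import Mathlib.GroupTheory.Nilpotent
import Mathlib.GroupTheory.PGroup
import Mathlib.GroupTheory.QuotientGroup.Basic
import Mathlib.GroupTheory.Index

/-!
General facts for two-constrained groups of sectional two-rank at most four.
-/

set_option autoImplicit false
set_option linter.style.haveILetI false

namespace Cfsg.Agent.RankFourA5

variable {X : Type*} [Group X] [Finite X]

/-- A section of exponent two has order at most sixteen. -/
theorem card_section_le (h : Cfsg.SectionalPRankLE 2 4 X) (M F : Subgroup X) (hFM : F ≤ M)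
    (hn : ∀ m ∈ M, ∀ f ∈ F, m * f * m⁻¹ ∈ F) (hsq : ∀ m ∈ M, m * m ∈ F) :
    Nat.card M ≤ 16 * Nat.card F := by
  set N := F.subgroupOf M with hN
  haveI : N.Normal := ⟨fun a ha m => hn m.1 m.2 a.1 ha⟩
  have hexp : ∀ a : M ⧸ N, a * a = 1 := fun a => by
    obtain ⟨m, rfl⟩ := QuotientGroup.mk_surjective a
    rw [← QuotientGroup.mk_mul, QuotientGroup.eq_one_iff]
    exact hsq m.1 m.2
  have hinv : ∀ a : M ⧸ N, a⁻¹ = a := fun a => inv_eq_of_mul_eq_one_right (hexp a)
  have h16 := h M N ⊤ ⟨⟨fun a b => Subtype.ext (by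
    show a.1 * b.1 = b.1 * a.1
    rw [← hinv (a.1 * b.1), _root_.mul_inv_rev, hinv, hinv])⟩⟩
    (fun a _ => by rw [pow_two]; exact hexp a)
  rw [Subgroup.card_top] at h16
  have hc := Subgroup.card_eq_card_quotient_mul_card_subgroup N
  rw [Nat.card_congr (Subgroup.subgroupOfEquivOfLe hFM).toEquiv] at hc
  rw [hc]
  exact Nat.mul_le_mul_right _ h16

/-- The fixed points of an automorphism. -/
def fixed {V : Type*} [Group V] (τ : MulAut V) : Subgroup V where
  carrier := {v | τ v = v}
  one_mem' := map_one τ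
  mul_mem' := fun {a b} ha hb => by
    rw [Set.mem_setOf_eq] at *
    rw [map_mul, ha, hb]
  inv_mem' := fun {a} ha => by
    rw [Set.mem_setOf_eq] at *
    rw [map_inv, ha]

theorem mem_fixed {V : Type*} [Group V] {τ : MulAut V} {v : V} : v ∈ fixed τ ↔ τ v = v := Iff.rfl

section invert

variable {V : Type*} [CommGroup V] [Finite V]

/-- An involution inverting an automorphism of order five fixes a subgroup of index at least four
and of order at least the index. -/
theorem four_le_index (hexp : ∀ v : V, v * v = 1) (σ τ : MulAut V) (h5 : σ ^ 5 = 1)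
    (hτ : τ * τ = 1) (hrel : τ * σ * τ * σ = 1) (hσ : σ ≠ 1) :
    4 ≤ (fixed τ).index := by
  haveI : Fact (Nat.Prime 2) := ⟨Nat.prime_two⟩
  have hV : IsPGroup 2 V := fun v => ⟨1, by rw [pow_one, pow_two, hexp]⟩
  by_contra h4
  set F := fixed τ with hF
  obtain ⟨k, hk⟩ := hV.index F
  have hF2 : F.index ≤ 2 := by
    have : k ≤ 1 := by
      by_contra hk2
      have := Nat.pow_le_pow_right (show 0 < 2 by norm_num) (Nat.lt_of_not_le hk2)
      omega
    have := Nat.pow_le_pow_right (show 0 < 2 by norm_num) this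
    omega
  set F' := F.map (σ : V ≃* V).toMonoidHom with hF'
  have hF'2 : F'.index ≤ 2 := by
    rw [hF', Subgroup.index_map_of_bijective (f := (σ : V ≃* V).toMonoidHom) σ.bijective]; exact hF2
  have hI : (F ⊓ F').index ≤ 4 :=
    Subgroup.index_inf_le.trans (Nat.mul_le_mul hF2 hF'2)
  have app : ∀ (a b : MulAut V) (v : V), (a * b) v = a (b v) := fun _ _ _ => rfl
  have hpow : ∀ (m : ℕ) (v : V), σ (((σ ^ m : MulAut V)) v) = (σ ^ (m + 1) : MulAut V) v := fun m v => by
    rw [pow_succ', app]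
  have hfix2 : ∀ v : V, σ (σ v) = v → σ v = v := fun v hv => by
    have h := DFunLike.congr_fun h5 v
    rw [show (5 : ℕ) = 1 + 2 + 2 from rfl, pow_add, pow_add, pow_one, pow_two, app, app, app, app,
      hv, hv, MulAut.one_apply] at h
    exact h
  have hIfix : ∀ v ∈ F ⊓ F', σ v = v := by
    rintro v ⟨hv, u, hu, rfl⟩
    change τ u = u at hu
    change τ (σ u) = σ u at hv
    -- the inverse relation on `u`
    have h := DFunLike.congr_fun hrel u
    rw [app, app, app, hv, MulAut.one_apply] at h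
    have h2 := congrArg τ h
    rw [← app τ τ, hτ, MulAut.one_apply, hu] at h2
    show σ (σ u) = σ u
    rw [h2]
    exact (hfix2 u h2).symm
  refine hσ (MulEquiv.ext fun v => ?_)
  rw [MulAut.one_apply]
  obtain ⟨i, j, hij, he⟩ : ∃ i j : Fin 5, i < j ∧
      (((σ ^ (i : ℕ) : MulAut V) v : V) : V ⧸ (F ⊓ F')) = ((σ ^ (j : ℕ) : MulAut V) v : V) := by
    have hni : ¬ Function.Injective
        (fun i : Fin 5 => (((σ ^ (i : ℕ) : MulAut V) v : V) : V ⧸ (F ⊓ F'))) := fun hinj => by
      have := Nat.card_le_card_of_injective _ hinj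
      rw [Nat.card_fin, ← Subgroup.index_eq_card] at this
      omega
    simp only [Function.Injective, not_forall] at hni
    obtain ⟨a, b, hab, hne⟩ := hni
    rcases lt_or_gt_of_ne hne with h | h
    · exact ⟨a, b, h, hab⟩
    · exact ⟨b, a, h, hab.symm⟩
  rw [QuotientGroup.eq] at he
  obtain ⟨d, hd0, hd⟩ : ∃ d : ℕ, 0 < d ∧ (j : ℕ) = i + d := ⟨j - i, by omega, by omega⟩
  set w := (σ ^ (i : ℕ) : MulAut V) v with hw
  set c := w⁻¹ * (σ ^ (j : ℕ) : MulAut V) v with hc
  have hσc : ∀ m : ℕ, (σ ^ m : MulAut V) c = c := fun m => by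
    induction m with
    | zero => rfl
    | succ m ih => rw [← hpow, ih, hIfix c he]
  have h1 : (σ ^ d : MulAut V) w = w * c := by
    rw [hc, mul_inv_cancel_left, hd, add_comm (i : ℕ) d, pow_add, app]
  have hk : ∀ m : ℕ, (σ ^ (d * m) : MulAut V) w = w * c ^ m := fun m => by
    induction m with
    | zero => simp
    | succ m ih => rw [Nat.mul_succ, pow_add, app, h1, map_mul, ih, hσc, pow_succ, mul_assoc]
  have h5' := hk 5
  rw [mul_comm d 5, pow_mul, h5, one_pow, MulAut.one_apply, left_eq_mul] at h5'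
  have hc1 : c = 1 := by
    have h2 : c ^ 5 = c := by
      rw [show c ^ 5 = (c * c) * (c * c) * c by simp [pow_succ, mul_assoc]]
      simp [hexp]
    rw [← h2, h5']
  rw [hc1, mul_one] at h1
  -- `d` is prime to five
  obtain ⟨e, he5⟩ : ∃ e : ℕ, d * e % 5 = 1 := by
    have : d = 1 ∨ d = 2 ∨ d = 3 ∨ d = 4 := by omega
    rcases this with rfl | rfl | rfl | rfl
    exacts [⟨1, rfl⟩, ⟨3, rfl⟩, ⟨2, rfl⟩, ⟨4, rfl⟩]
  have hw1 : σ w = w := by
    have h := hk e
    rw [hc1, one_pow, mul_one, ← Nat.mod_add_div (d * e) 5, he5, pow_add, pow_one, app, pow_mul, h5,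
      one_pow, MulAut.one_apply] at h
    exact h
  have hv : v = (σ ^ (5 - (i : ℕ)) : MulAut V) w := by
    rw [hw, ← app, ← pow_add, show 5 - (i : ℕ) + i = 5 by omega, h5, MulAut.one_apply]
  have hfixpow : ∀ m : ℕ, (σ ^ m : MulAut V) w = w := fun m => by
    induction m with
    | zero => rfl
    | succ m ih => rw [← hpow, ih, hw1]
  rw [hv, hfixpow, hw1]

/-- An involutory automorphism fixes at least the square root of the order. -/
theorem card_le_fixed_sq (hexp : ∀ v : V, v * v = 1) (τ : MulAut V) (hτ : τ * τ = 1) :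
    Nat.card V ≤ Nat.card (fixed τ) * Nat.card (fixed τ) := by
  let δ : V →* fixed τ :=
    { toFun := fun v => ⟨v * τ v, by
        rw [mem_fixed, map_mul, show τ (τ v) = v from DFunLike.congr_fun hτ v, mul_comm]⟩
      map_one' := Subtype.ext (by simp)
      map_mul' := fun a b => Subtype.ext (by
        show a * b * τ (a * b) = a * τ a * (b * τ b)
        rw [map_mul, mul_mul_mul_comm]) }
  have hk : δ.ker ≤ fixed τ := fun v hv => by
    have h : v * τ v = 1 := congrArg Subtype.val (MonoidHom.mem_ker.1 hv)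
    rw [mem_fixed]
    exact mul_left_cancel (h.trans (hexp v).symm)
  rw [Subgroup.card_eq_card_quotient_mul_card_subgroup δ.ker]
  refine Nat.mul_le_mul ?_ (Subgroup.card_le_of_le hk)
  rw [Nat.card_congr (QuotientGroup.quotientKerEquivRange δ).toEquiv]
  exact Subgroup.card_le_card_group _

end invert

/-- A non-trivial normal subgroup of a normal two-group has a proper subgroup with the same
properties, the layer between them being central and of exponent two. -/
theorem exists_layer {Q : Subgroup X} [Q.Normal] (hQ : IsPGroup 2 Q) {N : Subgroup X} [N.Normal]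
    (hNQ : N ≤ Q) (hN : N ≠ ⊥) :
    ∃ L : Subgroup X, L.Normal ∧ L < N ∧ (∀ n ∈ N, n * n ∈ L) ∧
      ∀ c ∈ Q, ∀ n ∈ N, c * n * c⁻¹ * n⁻¹ ∈ L := by
  haveI : Fact (Nat.Prime 2) := ⟨Nat.prime_two⟩
  obtain ⟨L, hL⟩ := (Set.toFinite {L : Subgroup X | L.Normal ∧ L < N}).exists_maximal
    ⟨⊥, inferInstance, bot_lt_iff_ne_bot.2 hN⟩
  obtain ⟨hLn, hLN⟩ := hL.prop
  haveI := hLn
  let π := QuotientGroup.mk' L
  have hπ := QuotientGroup.mk'_surjective L
  set W := N.map π with hW
  set R := Q.map π with hR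
  haveI : W.Normal := Subgroup.Normal.map inferInstance π hπ
  haveI : R.Normal := Subgroup.Normal.map inferInstance π hπ
  have hWR : W ≤ R := Subgroup.map_mono hNQ
  have hWp : IsPGroup 2 W := (hQ.map π).to_le hWR
  -- a normal subgroup inside `W` is trivial or everything
  have hmin : ∀ U : Subgroup (X ⧸ L), U.Normal → U ≤ W → U ≠ ⊥ → W ≤ U := by
    intro U hU hUW hUne
    have hle : U.comap π ≤ N := fun u hu => by
      obtain ⟨n, hn, hnu⟩ := hUW hu
      have h2 := mul_mem hn (hLN.le ((QuotientGroup.eq.1 hnu) : n⁻¹ * u ∈ L))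
      rwa [mul_inv_cancel_left] at h2
    have hLU : L ≤ U.comap π := fun l hl => by
      rw [Subgroup.mem_comap, show π l = 1 from (QuotientGroup.eq_one_iff l).2 hl]
      exact one_mem _
    have heq : U.comap π = N := by
      by_contra hne
      have h1 := hL.le_of_ge ⟨hU.comap π, lt_of_le_of_ne hle hne⟩ hLU
      refine hUne (eq_bot_iff.2 fun u hu => ?_)
      obtain ⟨u, rfl⟩ := hπ u
      exact Subgroup.mem_bot.2 ((QuotientGroup.eq_one_iff u).2 (h1 hu))
    rw [hW, ← heq, Subgroup.map_comap_eq_self_of_surjective hπ]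
  have hWne : W ≠ ⊥ := fun h => hLN.not_ge fun n hn => by
    have hn' : π n ∈ (⊥ : Subgroup (X ⧸ L)) := h ▸ Subgroup.mem_map_of_mem π hn
    exact (QuotientGroup.eq_one_iff n).1 (Subgroup.mem_bot.1 hn')
  -- central
  have hcen : W ≤ Subgroup.centralizer (R : Set (X ⧸ L)) := by
    refine (hmin (W ⊓ Subgroup.centralizer (R : Set (X ⧸ L))) inferInstance inf_le_left ?_).trans inf_le_right
    haveI : Nontrivial W := (Subgroup.nontrivial_iff_ne_bot W).2 hWne
    letI : MulAction R W :=
      MulAction.compHom W ((MulAut.conjNormal (H := W)).comp R.subtype)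
    have hfix : (1 : W) ∈ MulAction.fixedPoints R W := fun r => by
      show MulAut.conjNormal (R.subtype r) (1 : W) = 1
      simp
    obtain ⟨m, hm0, hm⟩ := hWp.nontrivial_iff_card.1 inferInstance
    obtain ⟨w, hw, hw1⟩ := (hQ.map π).exists_fixed_point_of_prime_dvd_card_of_fixed_point W
      (hm ▸ dvd_pow_self 2 hm0.ne') hfix
    intro hbot
    refine hw1 ((Subtype.ext (Subgroup.mem_bot.1 (hbot ▸ (⟨w.2, fun r hr => ?_⟩ :
      (w : X ⧸ L) ∈ W ⊓ Subgroup.centralizer (R : Set (X ⧸ L)))))).symm)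
    have h : ((MulAut.conjNormal r w : W) : X ⧸ L) = w := congrArg Subtype.val (hw ⟨r, hr⟩)
    rw [MulAut.conjNormal_apply] at h
    exact mul_inv_eq_iff_eq_mul.1 h
  have hcomm : ∀ a ∈ W, ∀ b ∈ W, a * b = b * a := fun a ha b hb =>
    (Subgroup.mem_centralizer_iff.1 (hcen ha) b (hWR hb)).symm
  -- exponent two
  have hexp : ∀ a ∈ W, a * a = 1 := by
    let U : Subgroup (X ⧸ L) :=
      { carrier := {a | a ∈ W ∧ a * a = 1}
        one_mem' := ⟨one_mem _, mul_one 1⟩
        mul_mem' := fun {a b} ha hb => ⟨mul_mem ha.1 hb.1, by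
          rw [mul_assoc, ← mul_assoc b, hcomm b hb.1 a ha.1, mul_assoc a b b, hb.2, mul_one, ha.2]⟩
        inv_mem' := fun {a} ha => ⟨inv_mem ha.1, by rw [← _root_.mul_inv_rev, ha.2, inv_one]⟩ }
    haveI hU : U.Normal := ⟨fun a ha y => ⟨Subgroup.Normal.conj_mem inferInstance a ha.1 y, by
      rw [show y * a * y⁻¹ * (y * a * y⁻¹) = y * (a * a) * y⁻¹ by group, ha.2, mul_one, mul_inv_cancel]⟩⟩
    intro a ha
    refine ((hmin U hU (fun b hb => hb.1) fun hbot => ?_) ha).2
    haveI : Nontrivial W := (Subgroup.nontrivial_iff_ne_bot W).2 hWne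
    obtain ⟨m, hm0, hm⟩ := hWp.nontrivial_iff_card.1 inferInstance
    obtain ⟨b, hb⟩ := exists_prime_orderOf_dvd_card' 2 (hm ▸ dvd_pow_self 2 hm0.ne' : 2 ∣ Nat.card W)
    have hbU : (b : X ⧸ L) ∈ U := ⟨b.2, by
      have := pow_orderOf_eq_one b
      rw [hb, pow_two] at this
      exact congrArg Subtype.val this⟩
    rw [hbot, Subgroup.mem_bot] at hbU
    rw [OneMemClass.coe_eq_one.1 hbU, orderOf_one] at hb
    exact absurd hb (by norm_num)
  refine ⟨L, hLn, hLN, fun n hn => (QuotientGroup.eq_one_iff _).1 (hexp _ (Subgroup.mem_map_of_mem π hn)),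
    fun c hc n hn => (QuotientGroup.eq_one_iff _).1 ?_⟩
  show π (c * n * c⁻¹ * n⁻¹) = 1
  rw [map_mul, map_mul, map_mul, map_inv, map_inv,
    Subgroup.mem_centralizer_iff.1 (hcen (Subgroup.mem_map_of_mem π hn)) (π c) (Subgroup.mem_map_of_mem π hc),
    mul_inv_cancel_right, mul_inv_cancel]

end Cfsg.Agent.RankFourA5
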