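import Cfsg.Agent.Lib.TwoGroups.Lifts
import Mathlib.GroupTheory.OrderOfElement

/-!
Four involutions with a common central commutator generate a central product of a quaternion and a
dihedral group of order eight.
-/

set_option autoImplicit false

namespace Cfsg.Agent.RankFourA5

variable {H : Type*} [Group H]

theorem central_product (z : H) (c : Fin 4 → H) (hz : z * z = 1) (hzne : z ≠ 1)
    (hzc : ∀ h, h * z = z * h) (hsq : ∀ i, c i * c i = 1)
    (hcom : ∀ i j, i ≠ j → c i * c j = z * (c j * c i))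
    (hgen : ∀ D : Subgroup H, (∀ i, c i ∈ D) → D = ⊤)
    (hcen : ∀ h, (∀ i, h * c i = c i * h) → h = 1 ∨ h = z) :
    ∃ A B : Subgroup H, Nonempty (↥A ≃* QuaternionGroup 2) ∧ Nonempty (↥B ≃* DihedralGroup 4) ∧
      (∀ a ∈ A, ∀ b ∈ B, a * b = b * a) ∧ A ⊔ B = ⊤ ∧ A ⊓ B = Subgroup.center H := by
  have hzl : ∀ h w, h * (z * w) = z * (h * w) := fun h w => by rw [← mul_assoc, hzc, mul_assoc]
  -- rules for moving an element past a product
  have nn : ∀ {x y y' : H}, x * y = z * (y * x) → x * y' = z * (y' * x) →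
      x * (y * y') = y * y' * x := fun {x y y'} h h' => by
    rw [← mul_assoc, h, mul_assoc, mul_assoc, h', hzl, ← mul_assoc z, hz, one_mul, ← mul_assoc]
  have nc : ∀ {x y y' : H}, x * y = z * (y * x) → x * y' = y' * x →
      x * (y * y') = z * (y * y' * x) := fun {x y y'} h h' => by
    rw [← mul_assoc, h, mul_assoc, mul_assoc, h', ← mul_assoc]; group
  have cn : ∀ {x y y' : H}, x * y = y * x → x * y' = z * (y' * x) →
      x * (y * y') = z * (y * y' * x) := fun {x y y'} h h' => by
    rw [← mul_assoc, h, mul_assoc, h', hzl, ← mul_assoc y]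
  have cc : ∀ {x y y' : H}, x * y = y * x → x * y' = y' * x →
      x * (y * y') = y * y' * x := fun {x y y'} h h' => by
    rw [← mul_assoc, h, mul_assoc, h', ← mul_assoc]
  have sy : ∀ {x y : H}, x * y = z * (y * x) → y * x = z * (x * y) := fun {x y} h => by
    rw [h, ← mul_assoc z z, hz, one_mul]
  have hinv : ∀ i, (c i)⁻¹ = c i := fun i => inv_eq_of_mul_eq_one_right (hsq i)
  set a := c 0 * c 1 with ha
  set i₁ := c 0 * c 1 * c 2 with hi
  set j₁ := c 0 * c 1 * c 3 with hj
  have haa : a * a = z := by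
    rw [show a * a = c 0 * (c 1 * c 0) * c 1 by rw [ha]; group, hcom 1 0 (by decide), hzl,
      ← mul_assoc (c 0), hsq, one_mul, mul_assoc, hsq, mul_one]
  have a0 : c 0 * a = z * (a * c 0) := cn rfl (hcom 0 1 (by decide))
  have a1 : c 1 * a = z * (a * c 1) := nc (hcom 1 0 (by decide)) rfl
  have a2 : c 2 * a = a * c 2 := nn (hcom 2 0 (by decide)) (hcom 2 1 (by decide))
  have a3 : c 3 * a = a * c 3 := nn (hcom 3 0 (by decide)) (hcom 3 1 (by decide))
  have hai : a * i₁ = i₁ * a := by
    rw [hi, ← ha]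
    exact cc rfl a2.symm
  have haj : a * j₁ = j₁ * a := by
    rw [hj, ← ha]
    exact cc rfl a3.symm
  have h0i : c 0 * i₁ = i₁ * c 0 := nn a0 (hcom 0 2 (by decide))
  have h0j : c 0 * j₁ = j₁ * c 0 := nn a0 (hcom 0 3 (by decide))
  have hii : i₁ * i₁ = z := by
    rw [show i₁ * i₁ = a * (c 2 * a) * c 2 by rw [hi, ha]; group, a2, ← mul_assoc a a, haa,
      mul_assoc, hsq, mul_one]
  have hjj : j₁ * j₁ = z := by
    rw [show j₁ * j₁ = a * (c 3 * a) * c 3 by rw [hj, ha]; group, a3, ← mul_assoc a a, haa,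
      mul_assoc, hsq, mul_one]
  have h3i : c 3 * i₁ = z * (i₁ * c 3) := cn a3 (hcom 3 2 (by decide))
  have hij : i₁ * j₁ = z * (j₁ * i₁) := cn hai.symm (sy h3i)
  have hinvof : ∀ {x : H}, x * x = z → x⁻¹ = z * x := fun {x} h => inv_eq_of_mul_eq_one_right (by
    rw [hzl, h, hz])
  have h4 : ∀ {x : H}, x * x = z → orderOf x = 4 := fun {x} h => by
    haveI : Fact (Nat.Prime 2) := ⟨Nat.prime_two⟩
    have := orderOf_eq_prime_pow (x := x) (p := 2) (n := 1)
      (by rw [pow_one, pow_two, h]; exact hzne)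
      (by rw [show 2 ^ (1 + 1) = 2 + 2 from rfl, pow_add, pow_two, h, hz])
    rw [this]; rfl
  set A := Subgroup.closure ({i₁, j₁} : Set H) with hA
  set B := Subgroup.closure ({a, c 0} : Set H) with hB
  have hnot : ∀ {x y : H}, x * y = z * (y * x) → x ∉ Subgroup.zpowers y := fun {x y} h hx => by
    obtain ⟨k, rfl⟩ := hx
    refine hzne ?_
    have e : y ^ k * y = y * y ^ k := (Commute.zpow_self y k).eq
    rw [← e] at h
    exact right_eq_mul.1 h
  have hAB : ∀ x ∈ A, ∀ y ∈ B, x * y = y * x := by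
    intro x hx y hy
    have hy' : ∀ y ∈ B, y * i₁ = i₁ * y ∧ y * j₁ = j₁ * y := by
      intro y hy
      have : B ≤ Subgroup.centralizer ({i₁, j₁} : Set H) := (Subgroup.closure_le _).2 (by
        rintro g (rfl | rfl)
        · exact Subgroup.mem_centralizer_iff.2 (by rintro g (rfl | rfl); exacts [hai.symm, haj.symm])
        · exact Subgroup.mem_centralizer_iff.2 (by rintro g (rfl | rfl); exacts [h0i.symm, h0j.symm]))
      have h := Subgroup.mem_centralizer_iff.1 (this hy)
      exact ⟨(h i₁ (Or.inl rfl)).symm, (h j₁ (Or.inr rfl)).symm⟩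
    have : A ≤ Subgroup.centralizer (B : Set H) := (Subgroup.closure_le _).2 (by
      rintro g (rfl | rfl)
      · exact Subgroup.mem_centralizer_iff.2 fun y hy => (hy' y hy).1
      · exact Subgroup.mem_centralizer_iff.2 fun y hy => (hy' y hy).2)
    exact (Subgroup.mem_centralizer_iff.1 (this hx) y hy).symm
  have htop : A ⊔ B = ⊤ := hgen _ fun k => by
    have hi' : i₁ ∈ A ⊔ B := Subgroup.mem_sup_left (Subgroup.subset_closure (Or.inl rfl))
    have hj' : j₁ ∈ A ⊔ B := Subgroup.mem_sup_left (Subgroup.subset_closure (Or.inr rfl))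
    have ha' : a ∈ A ⊔ B := Subgroup.mem_sup_right (Subgroup.subset_closure (Or.inl rfl))
    have h0' : c 0 ∈ A ⊔ B := Subgroup.mem_sup_right (Subgroup.subset_closure (Or.inr rfl))
    fin_cases k
    · exact h0'
    · have := mul_mem h0' ha'
      rwa [ha, ← mul_assoc, hsq, one_mul] at this
    · have := mul_mem (inv_mem ha') hi'
      rwa [hi, ← ha, inv_mul_cancel_left] at this
    · have := mul_mem (inv_mem ha') hj'
      rwa [hj, ← ha, inv_mul_cancel_left] at this
  refine ⟨A, B, TwoLift.quaternion_equiv (k := 2) (a := i₁) (g := j₁) (h4 hii)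
    (by rw [hjj, pow_two, hii]) ?_ (hnot (sy hij)) rfl,
    TwoLift.dihedral_equiv (a := a) (g := c 0) (h4 haa) (hsq 0) ?_ (hnot a0) rfl, hAB, htop, ?_⟩
  · rw [sy hij, hinvof hii, mul_assoc, mul_inv_cancel_right]
  · rw [a0, hinvof haa, mul_assoc, mul_inv_cancel_right]
  · refine le_antisymm (fun x hx => Subgroup.mem_center_iff.2 fun y => ?_) fun x hx => ?_
    · have : (⊤ : Subgroup H) ≤ Subgroup.centralizer ({x} : Set H) := htop ▸ sup_le
        (fun u hu => Subgroup.mem_centralizer_iff.2 (by rintro _ rfl; exact (hAB u hu _ hx.2).symm))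
        (fun u hu => Subgroup.mem_centralizer_iff.2 (by rintro _ rfl; exact hAB _ hx.1 u hu))
      exact (Subgroup.mem_centralizer_iff.1 (this (Subgroup.mem_top y)) x rfl).symm
    · rcases hcen x (fun k => (Subgroup.mem_center_iff.1 hx (c k)).symm) with rfl | rfl
      · exact one_mem _
      · exact ⟨hii ▸ mul_mem (Subgroup.subset_closure (Or.inl rfl)) (Subgroup.subset_closure (Or.inl rfl)),
          haa ▸ mul_mem (Subgroup.subset_closure (Or.inl rfl)) (Subgroup.subset_closure (Or.inl rfl))⟩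

end Cfsg.Agent.RankFourA5
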