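import Cfsg.Agent.Lib.RankFourA5.Quad

/-!
The structure of a two-radical on which the alternating group of degree five acts with rank four.
-/

set_option autoImplicit false
set_option linter.style.haveILetI false

namespace Cfsg.Agent.RankFourA5

variable {X : Type*} [Group X] [Finite X] {Q K L : Subgroup X} [Q.Normal] [K.Normal] [L.Normal]
  {φ : A5 →* X ⧸ Q}

theorem Setting.exists_ne (S : Setting Q K φ) : ∃ v : img K Q, v ≠ 1 := by
  have h16 := S.card_top_img
  haveI : Nontrivial (img K Q) := Finite.one_lt_card_iff_nontrivial.1 (by omega)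
  exact _root_.exists_ne _

theorem card_eq_two (S : Setting Q K φ) (h : Sec Q K L) (hlt : L < K) :
    Nat.card (img L K) = 2 := by
  have h1 := card_le (S := S) h
  have h2 := card_img h.le
  have h3 : Nat.card L < Nat.card K := by
    refine lt_of_le_of_ne (Subgroup.card_le_of_le h.le) fun e => hlt.ne ?_
    exact Subgroup.eq_of_le_of_card_ge h.le e.ge
  have hpos : 0 < Nat.card L := Nat.card_pos
  rw [h2] at h1 h3
  have hle : Nat.card (img L K) ≤ 2 := Nat.le_of_mul_le_mul_right h1 hpos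
  have hne1 : Nat.card (img L K) ≠ 1 := fun e => by rw [e, one_mul] at h3; omega
  have hne0 : Nat.card (img L K) ≠ 0 := Nat.card_pos.ne'
  omega

/-- Two non-trivial values of a section of order two agree. -/
theorem eq_of_ne_one {W : Type*} [Group W] [Finite W] (hW : Nat.card W = 2) {a b : W} (ha : a ≠ 1)
    (hb : b ≠ 1) : a = b := by
  obtain ⟨w, -, hw⟩ := (Nat.card_eq_two_iff' (1 : W)).1 hW
  exact (hw a ha).trans (hw b hb).symm

theorem exists_com_ne_one (S : Setting Q K φ) (h : Sec Q K L) (hlt : L < K) :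
    ∃ v w : img K Q, com S L v w ≠ 1 := by
  obtain ⟨v₀, hv₀⟩ := S.exists_ne
  obtain ⟨u, a, b, b', -, -, -, -, hall, ha, hsb, hsb', hb, hb', hab⟩ := values (S := S) h v₀ hv₀
  by_contra hc
  push Not at hc
  have hb1 : b = 1 := (hb 0).symm.trans (hc _ _)
  have hb'1 : b' = 1 := (hb' 0).symm.trans (hc _ _)
  have hv : ∀ v, sqv S L v = 1 := fun v => by
    by_cases hv1 : v = 1
    · rw [hv1, sqv_one h]
    · obtain ⟨i, rfl | rfl | rfl⟩ := hall v hv1
      · rw [ha, hab, hb1, hb'1, mul_one]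
      · rw [hsb, hb1]
      · rw [hsb', hb'1]
  refine hlt.not_ge (S.gen L fun q hq => (QuotientGroup.eq_one_iff (N := L) (q * q)).1 ?_)
  rw [← sqv_eq (S := S) h hq (v := ⟨_, Subgroup.mem_map_of_mem _ hq⟩) rfl, hv]
  rfl

/-- Below a proper layer there is no further layer. -/
theorem eq_bot (S : Setting Q K φ) (h : Sec Q K L) (hlt : L < K) : L = ⊥ := by
  by_contra hne
  obtain ⟨L', hL'n, hL'lt, hL'sq, hL'cen⟩ := exists_layer S.pgroup (h.le.trans S.le) hne
  haveI := hL'n
  have h2 := card_eq_two S h hlt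
  have hLc : ∀ q ∈ Q, ∀ l ∈ L, (q : X ⧸ L') * l = l * q := fun q hq l hl =>
    mk_comm.1 (hL'cen q hq l hl)
  set D := Q ⊓ (Subgroup.centralizer (img L' K : Set (X ⧸ L'))).comap (QuotientGroup.mk' L') with hD
  have hmemD : ∀ c ∈ Q, (∀ k ∈ K, (c : X ⧸ L') * k = k * c) → c ∈ D := fun c hc hcom =>
    ⟨hc, Subgroup.mem_centralizer_iff.2 fun y hy => by
      obtain ⟨k, hk, rfl⟩ := hy
      exact (hcom k hk).symm⟩
  -- two elements outside `L` differ by an element of `L`
  have htwo : ∀ k ∈ K, ∀ m ∈ K, k ∉ L → m ∉ L → k * m⁻¹ ∈ L := fun k hk m hm hkL hmL => by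
    have e := eq_of_ne_one h2
      (a := ⟨_, Subgroup.mem_map_of_mem (QuotientGroup.mk' L) hk⟩)
      (b := ⟨_, Subgroup.mem_map_of_mem (QuotientGroup.mk' L) hm⟩)
      (fun e => hkL ((QuotientGroup.eq_one_iff k).1 (congrArg Subtype.val e)))
      (fun e => hmL ((QuotientGroup.eq_one_iff m).1 (congrArg Subtype.val e)))
    have e' : (k : X ⧸ L) = m := congrArg Subtype.val e
    rw [← QuotientGroup.eq_one_iff, QuotientGroup.mk_mul, QuotientGroup.mk_inv, e', mul_inv_cancel]
  have hsqD : ∀ c ∈ Q, c * c ∉ L → c ∈ D := fun c hc hcc => hmemD c hc fun k hk => by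
    by_cases hkL : k ∈ L
    · exact hLc c hc k hkL
    · have hl := hLc c hc _ (htwo k hk _ (S.sq_mem c hc) hkL hcc)
      have hcm : (c : X ⧸ L') * ((c * c : X) : X ⧸ L') = ((c * c : X) : X ⧸ L') * c := by
        rw [QuotientGroup.mk_mul, mul_assoc]
      rw [show k = k * (c * c)⁻¹ * (c * c) by group, QuotientGroup.mk_mul, ← mul_assoc, hl, mul_assoc,
        hcm, ← mul_assoc]
  have hKD : K ≤ D := fun k hk => hmemD k (S.le hk) fun m hm => by
    by_cases hmL : m ∈ L
    · exact hLc k (S.le hk) m hmL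
    · by_cases hkL : k ∈ L
      · exact (hLc m (S.le hm) k hkL).symm
      · have hl := hLc m (S.le hm) _ (htwo k hk m hm hkL hmL)
        rw [show k = k * m⁻¹ * m by group, QuotientGroup.mk_mul, mul_assoc, ← mul_assoc (m : X ⧸ L'),
          hl, mul_assoc]
  have hQD : ∀ c ∈ Q, c ∈ D := by
    obtain ⟨v₀, hv₀⟩ := S.exists_ne
    obtain ⟨u, a, b, b', -, -, -, hu0, hall, ha, hsb, hsb', -, -, hab⟩ := values (S := S) h v₀ hv₀
    set DV := (img K D).subgroupOf (img K Q) with hDV
    have hin : ∀ v, sqv S L v ≠ 1 → v ∈ DV := fun v hv => by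
      refine Subgroup.mem_subgroupOf.2 (mk_rep v ▸ Subgroup.mem_map_of_mem (QuotientGroup.mk' K)
        (hsqD _ (rep_mem v) fun hL => hv (Subtype.ext ((QuotientGroup.eq_one_iff _).2 hL))))
    have hu : ∀ i, u i ∈ DV := by
      by_cases ha1 : a = 1
      · letI := h.commGroup
        have hbb : b' = b := by
          rw [ha1] at hab
          exact (mul_left_cancel ((h.exp b).trans hab)).symm
        have hb1 : b ≠ 1 := fun hb1 => by
          obtain ⟨v, w, hvw⟩ := exists_com_ne_one S h hlt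
          have hv : ∀ v, sqv S L v = 1 := fun v => by
            by_cases hv1 : v = 1
            · rw [hv1, sqv_one h]
            · obtain ⟨i, rfl | rfl | rfl⟩ := hall v hv1
              · rw [ha, ha1]
              · rw [hsb, hb1]
              · rw [hsb', hbb, hb1]
          refine hvw ?_
          have e := sqv_mul (S := S) h v w
          rw [hv, hv, hv, mul_one, mul_one] at e
          exact e.symm
        have h1 : ∀ i, u i * u (i + 1) ∈ DV := fun i => hin _ (by rw [hsb]; exact hb1)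
        have h2 : ∀ i, u i * u (i + 2) ∈ DV := fun i => hin _ (by rw [hsb', hbb]; exact hb1)
        have h0 : u 0 ∈ DV := by
          rw [hu0]; exact mul_mem (h1 1) (h1 3)
        intro i
        have hstep : ∀ i, u i ∈ DV → u (i + 1) ∈ DV := fun i hi =>
          (Subgroup.mul_mem_cancel_left DV hi).1 (h1 i)
        have h1' := hstep 0 h0
        have h2' := hstep _ h1'
        have h3' := hstep _ h2'
        have h4' := hstep _ h3'
        fin_cases i
        exacts [h0, h1', h2', h3', h4']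
      · exact fun i => hin _ (by rw [ha]; exact ha1)
    intro c hc
    have hv : (⟨_, Subgroup.mem_map_of_mem (QuotientGroup.mk' K) hc⟩ : img K Q) ∈ DV := by
      generalize (⟨_, Subgroup.mem_map_of_mem (QuotientGroup.mk' K) hc⟩ : img K Q) = v
      by_cases hv1 : v = 1
      · rw [hv1]; exact one_mem _
      · obtain ⟨i, rfl | rfl | rfl⟩ := hall v hv1
        exacts [hu i, mul_mem (hu _) (hu _), mul_mem (hu _) (hu _)]
    obtain ⟨d, hd, hdc⟩ := Subgroup.mem_subgroupOf.1 hv
    have := mul_mem hd (hKD (QuotientGroup.eq.1 hdc))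
    rwa [mul_inv_cancel_left] at this
  have hcen' : ∀ q ∈ Q, ∀ k ∈ K, (q : X ⧸ L') * k = k * q := fun q hq k hk =>
    (Subgroup.mem_centralizer_iff.1 (hQD q hq).2 _ (Subgroup.mem_map_of_mem _ hk)).symm
  have hsq' : ∀ k ∈ K, k * k ∈ L' := by
    intro k hk
    by_cases hkL : k ∈ L
    · exact hL'sq k hkL
    obtain ⟨v, w, hvw⟩ := exists_com_ne_one S h hlt
    have hc := rep_mem v
    have hd := rep_mem w
    generalize hcv : rep v = c at hc
    generalize hdw : rep w = d at hd
    set z := c * d * c⁻¹ * d⁻¹ with hz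
    have hzK : z ∈ K := S.comm_mem c hc d hd
    have hzL : z ∉ L := fun hL => hvw (Subtype.ext (by
      show ((rep v * rep w * (rep v)⁻¹ * (rep w)⁻¹ : X) : X ⧸ L) = 1
      rw [hcv, hdw]
      exact (QuotientGroup.eq_one_iff (N := L) z).2 hL))
    have hz2 : (z : X ⧸ L') * z = 1 := by
      have e1 : (c : X ⧸ L') * z * (c : X ⧸ L')⁻¹ = z := by
        rw [hcen' c hc z hzK, mul_inv_cancel_right]
      have e2 : ((c * c : X) : X ⧸ L') * d * ((c * c : X) : X ⧸ L')⁻¹ * (d : X ⧸ L')⁻¹ = 1 := by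
        rw [← hcen' d hd _ (S.sq_mem c hc), mul_inv_cancel_right, mul_inv_cancel]
      nth_rewrite 1 [← e1]
      rw [hz]
      simp only [QuotientGroup.mk_mul, QuotientGroup.mk_inv] at e2 ⊢
      rw [← e2]
      group
    obtain ⟨l, hl, rfl⟩ : ∃ l ∈ L, k = l * z := ⟨k * z⁻¹, htwo k hk z hzK hkL hzL, by group⟩
    rw [← QuotientGroup.eq_one_iff]
    simp only [QuotientGroup.mk_mul]
    rw [show (l : X ⧸ L') * z * ((l : X ⧸ L') * z) = (l : X ⧸ L') * ((z : X ⧸ L') * l) * z by group,
      hLc z (S.le hzK) l hl, show (l : X ⧸ L') * ((l : X ⧸ L') * z) * z =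
        (l : X ⧸ L') * l * ((z : X ⧸ L') * z) by group, hz2, mul_one]
    exact (QuotientGroup.eq_one_iff (N := L') (l * l)).2 (hL'sq l hl)
  have h' : Sec Q K L' := ⟨hL'lt.le.trans h.le, S.le, hsq', fun q hq k hk => mk_comm.2 (hcen' q hq k hk)⟩
  have hb := card_le (S := S) h'
  have hc := card_img h.le
  rw [h2] at hc
  have : Nat.card L' < Nat.card L := by
    refine lt_of_le_of_ne (Subgroup.card_le_of_le hL'lt.le) fun e => hL'lt.ne ?_
    exact Subgroup.eq_of_le_of_card_ge hL'lt.le e.ge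
  omega

/-- If `K` is non-trivial then `Q` is generated by four involutions any two of which have the same
non-trivial central commutator. -/
theorem structure_of_ne_bot (S : Setting Q K φ) (hK : K ≠ ⊥) :
    Nat.card K = 2 ∧ ∃ (z : X) (c : Fin 4 → X), z ∈ K ∧ z ≠ 1 ∧ z * z = 1 ∧
      (∀ q ∈ Q, q * z = z * q) ∧ (∀ i, c i ∈ Q) ∧ (∀ i, c i * c i = 1) ∧
      (∀ i j, i ≠ j → c i * c j = z * (c j * c i)) ∧
      (∀ D : Subgroup X, (∀ i, c i ∈ D) → Q ≤ D) ∧
      (∀ h ∈ Q, (∀ i, h * c i = c i * h) → h = 1 ∨ h = z) := by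
  obtain ⟨L, hLn, hlt, hsq, hcen⟩ := exists_layer S.pgroup S.le hK
  haveI := hLn
  have h : Sec Q K L := ⟨hlt.le, S.le, hsq, hcen⟩
  obtain rfl := eq_bot S h hlt
  have h2 := card_eq_two S h hlt
  refine ⟨by rw [card_img h.le, h2, Subgroup.card_bot], ?_⟩
  have hm : ∀ {a b : X}, (a : X ⧸ (⊥ : Subgroup X)) = b → a = b := fun {a b} e => by
    have := QuotientGroup.eq.1 e
    rwa [Subgroup.mem_bot, inv_mul_eq_one] at this
  letI := S.top.commGroup
  letI := h.commGroup
  -- a non-trivial element with trivial square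
  obtain ⟨v₀, hv₀, hq0⟩ : ∃ v : img K Q, v ≠ 1 ∧ sqv S (⊥ : Subgroup X) v = 1 := by
    obtain ⟨v, hv⟩ := S.exists_ne
    obtain ⟨u, a, b, b', hu0, hinj, -, -, hall, ha, hsb, hsb', -, -, hab⟩ := values (S := S) h v hv
    by_cases ha1 : a = 1
    · exact ⟨u 0, hu0 ▸ hv, (ha 0).trans ha1⟩
    by_cases hb1 : b = 1
    · refine ⟨u 0 * u 1, fun e => ?_, (hsb 0).trans hb1⟩
      exact absurd (hinj (mul_left_cancel (e.trans (S.top.exp (u 0)).symm))) (by decide)
    by_cases hb'1 : b' = 1
    · refine ⟨u 0 * u 2, fun e => ?_, (hsb' 0).trans hb'1⟩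
      exact absurd (hinj (mul_left_cancel (e.trans (S.top.exp (u 0)).symm))) (by decide)
    exact absurd (by rw [hab, eq_of_ne_one h2 hb1 hb'1, h.exp]) ha1
  obtain ⟨u, a, b, b', hu0, -, h4, -, hall, ha, -, -, hb, hb', hab⟩ := values (S := S) h v₀ hv₀
  have ha1 : a = 1 := by rw [← ha 0, hu0, hq0]
  have hbb : b' = b := (mul_left_cancel ((h.exp b).trans (hab.symm.trans ha1).symm)).symm
  have hb1 : b ≠ 1 := fun hb1 => by
    obtain ⟨v, w, hvw⟩ := exists_com_ne_one S h hlt
    refine hvw ?_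
    have hcu : ∀ i j, com S (⊥ : Subgroup X) (u i) (u j) = 1 := by
      intro i j
      have key : ∀ i j : Fin 5, j = i ∨ j = i + 1 ∨ j = i + 2 ∨ i = j + 1 ∨ i = j + 2 := by decide
      rcases key i j with rfl | rfl | rfl | rfl | rfl
      · exact com_self h _
      · rw [hb, hb1]
      · rw [hb', hbb, hb1]
      · rw [com_symm h (u j), hb, hb1]
      · rw [com_symm h (u j), hb', hbb, hb1]
    have hcr : ∀ i v, com S (⊥ : Subgroup X) (u i) v = 1 := fun i v => by
      by_cases hv1 : v = 1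
      · rw [hv1, com_one_right h]
      · obtain ⟨j, rfl | rfl | rfl⟩ := hall v hv1 <;> simp [com_mul_right h, hcu]
    by_cases hw1 : w = 1
    · rw [hw1, com_one_right h]
    · obtain ⟨j, rfl | rfl | rfl⟩ := hall w hw1 <;>
        simp [com_mul_right h, com_symm h (u _) v, hcr]
  obtain ⟨bx, z, hzK, hbz⟩ := b
  have hzne : z ≠ 1 := fun e => hb1 (Subtype.ext (hbz.symm.trans ((congrArg _ e).trans (map_one _))))
  let c : Fin 4 → X := fun i => rep (u i.castSucc)
  have hcu : ∀ i : Fin 4, (c i : X ⧸ K) = u i.castSucc := fun i => mk_rep _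
  have hcom : ∀ i j : Fin 5, i ≠ j → com S (⊥ : Subgroup X) (u i) (u j) = ⟨bx, z, hzK, hbz⟩ := by
    intro i j hij
    have key : ∀ i j : Fin 5, j = i ∨ j = i + 1 ∨ j = i + 2 ∨ i = j + 1 ∨ i = j + 2 := by decide
    rcases key i j with rfl | rfl | rfl | rfl | rfl
    · exact absurd rfl hij
    · rw [hb]
    · rw [hb', hbb]
    · rw [com_symm h (u j), hb]
    · rw [com_symm h (u j), hb', hbb]
  have hcij : ∀ i j, i ≠ j → c i * c j = z * (c j * c i) := fun i j hij => by
    have e : ((c i * c j * (c i)⁻¹ * (c j)⁻¹ : X) : X ⧸ (⊥ : Subgroup X)) = z :=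
      (congrArg Subtype.val (hcom i.castSucc j.castSucc
        (fun e => hij (Fin.castSucc_injective 4 e)))).trans hbz.symm
    rw [← hm e]; group
  have hfive : ∀ D : Subgroup X, (∀ i, c i ∈ D) → K ≤ D → ∀ i, ∃ d ∈ D, (d : X ⧸ K) = u i := by
    intro D hD _ i
    induction i using Fin.lastCases with
    | cast i => exact ⟨c i, hD i, hcu i⟩
    | last =>
      refine ⟨c 0 * c 1 * c 2 * c 3, mul_mem (mul_mem (mul_mem (hD 0) (hD 1)) (hD 2)) (hD 3), ?_⟩
      rw [QuotientGroup.mk_mul, QuotientGroup.mk_mul, QuotientGroup.mk_mul, hcu, hcu, hcu, hcu,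
        show (Fin.last 4) = 4 from rfl, h4]
      rfl
  have hzq : ∀ q ∈ Q, q * z = z * q := fun q hq => by
    have := hcen q hq z hzK
    rwa [Subgroup.mem_bot, mul_inv_eq_one, mul_inv_eq_iff_eq_mul] at this
  have hKz : ∀ k ∈ K, k = 1 ∨ k = z := fun k hk => by
    by_cases hk1 : k = 1
    · exact Or.inl hk1
    · refine Or.inr (hm (congrArg Subtype.val (eq_of_ne_one h2
        (a := ⟨_, Subgroup.mem_map_of_mem (QuotientGroup.mk' _) hk⟩)
        (b := ⟨_, Subgroup.mem_map_of_mem (QuotientGroup.mk' _) hzK⟩) ?_ ?_)))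
      · exact fun e => hk1 (hm ((congrArg Subtype.val e).trans rfl))
      · exact fun e => hzne (hm ((congrArg Subtype.val e).trans rfl))
  refine ⟨z, c, hzK, hzne, ?_, hzq, fun i => rep_mem _, fun i => ?_, hcij, fun D hD => ?_,
    fun y hy hcomm => ?_⟩
  · have := hsq z hzK
    rwa [Subgroup.mem_bot] at this
  · refine hm ((congrArg Subtype.val ((ha i.castSucc).trans ha1)).trans rfl)
  · have hzD : z ∈ D := by
      rw [show z = c 0 * c 1 * (c 0)⁻¹ * (c 1)⁻¹ by rw [hcij 0 1 (by decide)]; group]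
      exact mul_mem (mul_mem (mul_mem (hD 0) (hD 1)) (inv_mem (hD 0))) (inv_mem (hD 1))
    have hKD : K ≤ D := fun k hk => by
      rcases hKz k hk with rfl | rfl
      exacts [one_mem _, hzD]
    intro q hq
    obtain ⟨d, hd, hdq⟩ : ∃ d ∈ D, (d : X ⧸ K) = q := by
      obtain ⟨v, hv⟩ : ∃ v : img K Q, (q : X ⧸ K) = v :=
        ⟨⟨_, Subgroup.mem_map_of_mem _ hq⟩, rfl⟩
      rw [hv]
      by_cases hv1 : v = 1
      · exact ⟨1, one_mem _, by rw [hv1]; rfl⟩
      · obtain ⟨i, rfl | rfl | rfl⟩ := hall v hv1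
        · exact hfive D hD hKD i
        all_goals
          obtain ⟨d, hd, hdv⟩ := hfive D hD hKD i
        · obtain ⟨d', hd', hdv'⟩ := hfive D hD hKD (i + 1)
          exact ⟨d * d', mul_mem hd hd', by rw [QuotientGroup.mk_mul, hdv, hdv']; rfl⟩
        · obtain ⟨d', hd', hdv'⟩ := hfive D hD hKD (i + 2)
          exact ⟨d * d', mul_mem hd hd', by rw [QuotientGroup.mk_mul, hdv, hdv']; rfl⟩
    have := mul_mem hd (hKD (QuotientGroup.eq.1 hdq))
    rwa [mul_inv_cancel_left] at this
  · refine hKz y ((QuotientGroup.eq_one_iff (N := K) y).1 ?_)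
    set v : img K Q := ⟨_, Subgroup.mem_map_of_mem _ hy⟩ with hv
    have hvc : ∀ i : Fin 4, com S (⊥ : Subgroup X) (u i.castSucc) v = 1 := fun i => by
      rw [com_symm h v (u i.castSucc)]
      refine Subtype.ext ?_
      rw [com_eq h hy (rep_mem _) rfl (mk_rep _)]
      show ((y * c i * y⁻¹ * (c i)⁻¹ : X) : X ⧸ (⊥ : Subgroup X)) = 1
      rw [hcomm i, mul_inv_cancel_right, mul_inv_cancel]
      rfl
    have hv4 : com S (⊥ : Subgroup X) (u 4) v = 1 := by
      rw [h4, com_symm h v, com_mul_right h, com_mul_right h, com_mul_right h, com_symm h (u 0) v,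
        com_symm h (u 1) v, com_symm h (u 2) v, com_symm h (u 3) v]
      erw [hvc 0, hvc 1, hvc 2, hvc 3]
      simp
    have hvall : ∀ i, com S (⊥ : Subgroup X) (u i) v = 1 := fun i => by
      induction i using Fin.lastCases with
      | cast i => exact hvc i
      | last => exact hv4
    by_contra hy1
    have hv1 : v ≠ 1 := fun e => hy1 (congrArg Subtype.val e)
    have key : ∀ i : Fin 5, i ≠ i + 1 ∧ i ≠ i + 2 := by decide
    obtain ⟨i, e | e | e⟩ := hall v hv1
    · exact hb1 ((hcom (i + 1) i (key i).1.symm).symm.trans (e ▸ hvall (i + 1)))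
    · have := hvall i
      rw [e, com_mul_right h, com_self h, one_mul, hcom i _ (key i).1] at this
      exact hb1 this
    · have := hvall i
      rw [e, com_mul_right h, com_self h, one_mul, hcom i _ (key i).2] at this
      exact hb1 this

end Cfsg.Agent.RankFourA5
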