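import Cfsg.Agent.Lib.RankFourA5.Basic
import Mathlib.Data.ZMod.Basic
import Mathlib.GroupTheory.PGroup
import Mathlib.Algebra.BigOperators.Fin
import Mathlib.Tactic.FinCases
import Mathlib.Tactic.IntervalCases
import Mathlib.Tactic.Abel

/-!
An automorphism of order five of an elementary group of order sixteen.
-/

set_option autoImplicit false
set_option linter.style.haveILetI false

namespace Cfsg.Agent.RankFourA5

variable {V : Type*} [CommGroup V] [Finite V]

/-- Coordinates of the five vectors of an orbit. -/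
def unitVec (i : Fin 5) : Fin 4 → ZMod 2 := fun j => if i = 4 ∨ (i : ℕ) = (j : ℕ) then 1 else 0

/-- The companion map. -/
def comp (c : Fin 4 → ZMod 2) : Fin 4 → ZMod 2 := ![c 3, c 0 + c 3, c 1 + c 3, c 2 + c 3]

theorem comp_span : ∀ c : Fin 4 → ZMod 2, c ≠ 0 → ∃ a : Fin 4 → ZMod 2,
    a 0 • c + a 1 • comp c + a 2 • comp (comp c) + a 3 • comp (comp (comp c)) = unitVec 0 := by
  decide +kernel

theorem unitVec_all : ∀ c : Fin 4 → ZMod 2, c ≠ 0 → ∃ i : Fin 5, c = unitVec i ∨
    c = unitVec i + unitVec (i + 1) ∨ c = unitVec i + unitVec (i + 2) := by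
  decide +kernel

theorem unitVec_injective : Function.Injective unitVec := by
  unfold Function.Injective
  decide +kernel

/-- An injective map of the pentagon to itself with cube one is the identity. -/
theorem pentagon (f : Fin 5 → Fin 5) (hf : Function.Injective f)
    (hadj : ∀ i, f (i + 1) - f i = 1 ∨ f (i + 1) - f i = 4) (h3 : ∀ i, f (f (f i)) = i) :
    ∀ i, f i = i := by
  set d := f 1 - f 0 with hd
  have step : ∀ i, f (i + 1 + 1) - f (i + 1) = f (i + 1) - f i := fun i => by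
    by_contra hne
    have hsum : f (i + 1 + 1) - f i = 0 := by
      have key : ∀ a b : Fin 5, (a = 1 ∨ a = 4) → (b = 1 ∨ b = 4) → a ≠ b → a + b = 0 := by decide
      rw [← sub_add_sub_cancel (f (i + 1 + 1)) (f (i + 1)) (f i)]
      exact key _ _ (hadj _) (hadj _) hne
    have key : ∀ j : Fin 5, j + 1 + 1 ≠ j := by decide
    exact key i (hf (sub_eq_zero.1 hsum))
  have hn : ∀ i, f (i + 1 + 1) = f (i + 1) + (f (i + 1) - f i) := fun i => by
    rw [← step i]; abel
  have h0 : f 1 = f 0 + d := by rw [hd]; abel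
  have e : ∀ s d : Fin 5, s + d + (s + d - s) = s + 2 * d ∧
      s + 2 * d + (s + 2 * d - (s + d)) = s + 3 * d ∧
      s + 3 * d + (s + 3 * d - (s + 2 * d)) = s + 4 * d := by decide
  have h1 : f 2 = f 0 + 2 * d := by
    have h := hn 0
    rw [show (0 : Fin 5) + 1 + 1 = 2 by decide, show (0 : Fin 5) + 1 = 1 by decide, h0] at h
    exact h.trans (e _ _).1
  have h2 : f 3 = f 0 + 3 * d := by
    have h := hn 1
    rw [show (1 : Fin 5) + 1 + 1 = 3 by decide, show (1 : Fin 5) + 1 = 2 by decide, h1, h0] at h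
    exact h.trans (e _ _).2.1
  have h4 : f 4 = f 0 + 4 * d := by
    have h := hn 2
    rw [show (2 : Fin 5) + 1 + 1 = 4 by decide, show (2 : Fin 5) + 1 = 3 by decide, h2, h1] at h
    exact h.trans (e _ _).2.2
  have haff : ∀ i, f i = f 0 + i * d := fun i => by
    fin_cases i
    · simp
    · simpa using h0
    · exact h1
    · exact h2
    · exact h4
  have hd1 : d = 1 ∨ d = 4 := hadj 0
  have key : ∀ s d : Fin 5, (d = 1 ∨ d = 4) → (∀ i : Fin 5, s + (s + (s + i * d) * d) * d = i) →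
      ∀ i : Fin 5, s + i * d = i := by decide
  intro i
  rw [haff i]
  refine key _ _ hd1 (fun j => ?_) i
  have h := h3 j
  rw [haff j, haff (f 0 + j * d), haff (f 0 + (f 0 + j * d) * d)] at h
  exact h

/-- The only fixed point of an automorphism of order five is trivial. -/
theorem fixed_five (h16 : Nat.card V = 16) (σ : MulAut V) (h5 : σ ^ 5 = 1) (hσ : σ ≠ 1) :
    ∀ v : V, σ v = v → v = 1 := by
  haveI : Fact (Nat.Prime 5) := ⟨by norm_num⟩
  haveI : Fact (Nat.Prime 2) := ⟨Nat.prime_two⟩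
  have hP : IsPGroup 5 (Subgroup.zpowers σ) := fun x => ⟨1, by
    obtain ⟨x, k, rfl⟩ := x
    apply Subtype.ext
    show (σ ^ k) ^ (5 ^ 1) = 1
    rw [pow_one, ← zpow_natCast, ← zpow_mul, mul_comm, zpow_mul, zpow_natCast, h5, one_zpow]⟩
  have hmod := hP.card_modEq_card_fixedPoints V
  have heq : MulAction.fixedPoints (Subgroup.zpowers σ) V = (fixed σ : Set V) := by
    ext v
    refine ⟨fun h => h ⟨σ, Subgroup.mem_zpowers σ⟩, fun h g => ?_⟩
    have hmem : σ ∈ MulAction.stabilizer (MulAut V) v := MulAction.mem_stabilizer_iff.2 h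
    exact MulAction.mem_stabilizer_iff.1 (Subgroup.zpowers_le.2 hmem g.2)
  rw [heq, h16] at hmod
  obtain ⟨k, hk, hkc⟩ := (Nat.dvd_prime_pow Nat.prime_two).1
    (show Nat.card (fixed σ) ∣ 2 ^ 4 by
      rw [show 2 ^ 4 = Nat.card V from h16.symm]; exact Subgroup.card_subgroup_dvd_card _)
  have hmod' : 16 ≡ Nat.card (fixed σ) [MOD 5] := hmod
  rw [hkc] at hmod'
  intro v hv
  interval_cases k
  · exact Subgroup.mem_bot.1 (Subgroup.card_eq_one.1 hkc ▸ hv)
  · exact absurd hmod' (by decide)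
  · exact absurd hmod' (by decide)
  · exact absurd hmod' (by decide)
  · have htop : fixed σ = ⊤ := Subgroup.eq_top_of_card_eq _ (by rw [hkc, h16]; norm_num)
    refine absurd (MulEquiv.ext fun w => ?_) hσ
    rw [MulAut.one_apply]
    exact mem_fixed.1 (htop ▸ Subgroup.mem_top w)

/-- The orbit of a non-trivial element under an automorphism of order five. -/
theorem orbit (hexp : ∀ v : V, v * v = 1) (h16 : Nat.card V = 16) (σ : MulAut V) (h5 : σ ^ 5 = 1)
    (hσ : σ ≠ 1) (v₀ : V) (hv₀ : v₀ ≠ 1) :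
    ∃ u : Fin 5 → V, u 0 = v₀ ∧ (∀ i, σ (u i) = u (i + 1)) ∧ Function.Injective u ∧
      u 4 = u 0 * u 1 * u 2 * u 3 ∧
      (∀ v ≠ 1, ∃ i, v = u i ∨ v = u i * u (i + 1) ∨ v = u i * u (i + 2)) ∧
      ∃ ψ : (Fin 4 → ZMod 2) → V, Function.Bijective ψ ∧ (∀ c d, ψ (c + d) = ψ c * ψ d) ∧
        ∀ i, ψ (unitVec i) = u i := by
  set u : Fin 5 → V := fun i => (σ ^ (i : ℕ) : MulAut V) v₀ with hu
  have hsucc : ∀ i, σ (u i) = u (i + 1) := fun i => by
    show σ ((σ ^ (i : ℕ) : MulAut V) v₀) = (σ ^ ((i + 1 : Fin 5) : ℕ) : MulAut V) v₀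
    rw [← MulAut.mul_apply, ← pow_succ']
    congr 1
    rw [Fin.val_add, ← pow_eq_pow_mod _ h5]
    rfl
  have hfix := fixed_five h16 σ h5 hσ
  have h4 : u 4 = u 0 * u 1 * u 2 * u 3 := by
    have h : u 0 * u 1 * u 2 * u 3 * u 4 = 1 := hfix _ (by
      simp only [map_mul, hsucc]
      rw [show (0 : Fin 5) + 1 = 1 by decide, show (1 : Fin 5) + 1 = 2 by decide,
        show (2 : Fin 5) + 1 = 3 by decide, show (3 : Fin 5) + 1 = 4 by decide,
        show (4 : Fin 5) + 1 = 0 by decide]
      ac_rfl)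
    exact (mul_left_cancel (h.trans (hexp _).symm))
  let pwr : V → ZMod 2 → V := fun v c => v ^ c.val
  have hp : ∀ (v : V) (a b : ZMod 2), pwr v (a + b) = pwr v a * pwr v b := fun v a b => by
    have h2 : v ^ 2 = 1 := by rw [pow_two, hexp]
    show v ^ (a + b).val = v ^ a.val * v ^ b.val
    rw [← pow_add, ZMod.val_add, ← pow_eq_pow_mod _ h2]
  let ψ : (Fin 4 → ZMod 2) → V := fun c =>
    pwr (u 0) (c 0) * pwr (u 1) (c 1) * pwr (u 2) (c 2) * pwr (u 3) (c 3)
  have hadd : ∀ c d, ψ (c + d) = ψ c * ψ d := fun c d => by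
    simp only [ψ, Pi.add_apply, hp]
    ac_rfl
  have hp0 : ∀ v : V, pwr v 0 = 1 := fun v => by simp [pwr]
  have hp1 : ∀ v : V, pwr v 1 = v := fun v => by simp [pwr, ZMod.val_one]
  have hzero : ψ 0 = 1 := by simp [ψ, hp0]
  have hsmul : ∀ (a : ZMod 2) c, ψ (a • c) = pwr (ψ c) a := fun a c => by
    rcases (show a = 0 ∨ a = 1 by revert a; decide) with rfl | rfl
    · rw [zero_smul, hzero, hp0]
    · rw [one_smul, hp1]
  have hE : ∀ i, ψ (unitVec i) = u i := fun i => by
    fin_cases i <;> simp [ψ, unitVec, hp0, hp1, h4]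
  have hcomp : ∀ c, ψ (comp c) = σ (ψ c) := fun c => by
    have hσp : ∀ (v : V) a, σ (pwr v a) = pwr (σ v) a := fun v a => map_pow σ v _
    have hpm : ∀ (v w : V) a, pwr (v * w) a = pwr v a * pwr w a := fun v w a => mul_pow v w _
    simp only [ψ, map_mul, hσp, hsucc]
    rw [show (0 : Fin 5) + 1 = 1 by decide, show (1 : Fin 5) + 1 = 2 by decide,
      show (2 : Fin 5) + 1 = 3 by decide, show (3 : Fin 5) + 1 = 4 by decide, h4, hpm, hpm, hpm]
    simp only [comp, Matrix.cons_val, hp]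
    ac_rfl
  have hker : ∀ c, ψ c = 1 → c = 0 := fun c hc => by
    by_contra hne
    obtain ⟨a, ha⟩ := comp_span c hne
    refine hv₀ ?_
    have h := congrArg ψ ha
    rw [hadd, hadd, hadd, hsmul, hsmul, hsmul, hsmul, hE] at h
    simp only [hcomp, hc, map_one, pwr, one_pow, one_mul] at h
    exact (h.trans (show u 0 = v₀ by simp [hu])).symm
  have hinj : Function.Injective ψ := fun c d h => by
    have hdd : ∀ x : Fin 4 → ZMod 2, x + x = 0 := by decide +kernel
    have h' := hker (c + d) (by rw [hadd, h, hexp])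
    calc c = c + d + d := by rw [add_assoc, hdd, add_zero]
      _ = d := by rw [h', zero_add]
  have hbij : Function.Bijective ψ := (Nat.bijective_iff_injective_and_card ψ).2 ⟨hinj, by
    rw [h16, Nat.card_fun, Nat.card_zmod, Nat.card_fin]; norm_num⟩
  refine ⟨u, by simp [hu], hsucc, ?_, h4, fun v hv => ?_, ψ, hbij, hadd, hE⟩
  · intro i j h
    rw [← hE, ← hE] at h
    exact unitVec_injective (hinj h)
  · obtain ⟨c, rfl⟩ := hbij.2 v
    obtain ⟨i, hi⟩ := unitVec_all c (fun h => hv (h ▸ hzero))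
    refine ⟨i, ?_⟩
    rcases hi with rfl | rfl | rfl
    · exact Or.inl (hE i)
    · exact Or.inr (Or.inl (by rw [hadd, hE, hE]))
    · exact Or.inr (Or.inr (by rw [hadd, hE, hE]))

/-- The fixed points of an involution inverting an automorphism of order five have order four, and
are the products of an element with its image. -/
theorem invol_data (hexp : ∀ v : V, v * v = 1) (h16 : Nat.card V = 16) (σ τ : MulAut V)
    (h5 : σ ^ 5 = 1) (hτ : τ * τ = 1) (hrel : τ * σ * τ * σ = 1) (hσ : σ ≠ 1) :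
    Nat.card (fixed τ) = 4 ∧ ∀ v, τ v = v → ∃ b, b * τ b = v := by
  have h1 := four_le_index hexp σ τ h5 hτ hrel hσ
  have h2 := card_le_fixed_sq hexp τ hτ
  have h3 := Subgroup.card_mul_index (fixed τ)
  rw [h16] at h2 h3
  have hF : Nat.card (fixed τ) = 4 := by nlinarith
  refine ⟨hF, fun v hv => ?_⟩
  let δ : V →* V :=
    { toFun := fun v => v * τ v
      map_one' := by simp
      map_mul' := fun a b => by rw [map_mul, mul_mul_mul_comm] }
  have hk : δ.ker ≤ fixed τ := fun w hw => by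
    have h : w * τ w = 1 := MonoidHom.mem_ker.1 hw
    exact mul_left_cancel (h.trans (hexp w).symm)
  have hr : δ.range ≤ fixed τ := by
    rintro _ ⟨w, rfl⟩
    show τ (w * τ w) = w * τ w
    rw [map_mul, show τ (τ w) = w from DFunLike.congr_fun hτ w, mul_comm]
  have hc : Nat.card δ.range * Nat.card δ.ker = 16 := by
    rw [← h16, Subgroup.card_eq_card_quotient_mul_card_subgroup δ.ker,
      Nat.card_congr (QuotientGroup.quotientKerEquivRange δ).toEquiv]
  have hkc := Subgroup.card_le_of_le hk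
  have hrc := Subgroup.card_le_of_le hr
  rw [hF] at hkc hrc
  have heq : δ.range = fixed τ := Subgroup.eq_of_le_of_card_ge hr (by nlinarith)
  obtain ⟨b, hb⟩ := (heq ▸ hv : v ∈ δ.range)
  exact ⟨b, hb⟩

end Cfsg.Agent.RankFourA5
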