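import Cfsg.Agent.Lib.RankFourA5.Setting

/-!
The squaring map on the top of a normal two-subgroup acted on by the alternating group of degree
five.
-/

set_option autoImplicit false
set_option linter.style.haveILetI false

namespace Cfsg.Agent.RankFourA5

variable {X : Type*} [Group X] [Finite X] {Q K L : Subgroup X} [Q.Normal] [K.Normal] [L.Normal]
  {φ : A5 →* X ⧸ Q}

/-- A representative. -/
noncomputable def rep (v : img K Q) : X := (Subgroup.mem_map.1 v.2).choose

theorem rep_mem (v : img K Q) : rep v ∈ Q := (Subgroup.mem_map.1 v.2).choose_spec.1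

theorem mk_rep (v : img K Q) : ((rep v : X) : X ⧸ K) = v := (Subgroup.mem_map.1 v.2).choose_spec.2

variable (S : Setting Q K φ)

/-- The squaring map. -/
noncomputable def sqv (L : Subgroup X) [L.Normal] (v : img K Q) : img L K :=
  ⟨((rep v * rep v : X) : X ⧸ L), Subgroup.mem_map_of_mem (QuotientGroup.mk' L)
    (S.sq_mem _ (rep_mem v))⟩

/-- The commutator map. -/
noncomputable def com (L : Subgroup X) [L.Normal] (v w : img K Q) : img L K :=
  ⟨((rep v * rep w * (rep v)⁻¹ * (rep w)⁻¹ : X) : X ⧸ L),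
    Subgroup.mem_map_of_mem (QuotientGroup.mk' L) (S.comm_mem _ (rep_mem v) _ (rep_mem w))⟩

variable {S} (h : Sec Q K L)
include S h

theorem sqv_eq {c : X} (hc : c ∈ Q) {v : img K Q} (hcv : (c : X ⧸ K) = v) :
    (sqv S L v : X ⧸ L) = ((c * c : X) : X ⧸ L) := by
  obtain ⟨k, hk, rfl⟩ : ∃ k ∈ K, c = rep v * k :=
    ⟨(rep v)⁻¹ * c, QuotientGroup.eq.1 ((mk_rep v).trans hcv.symm), by group⟩
  have hck := mk_comm.1 (h.cen _ (rep_mem v) k hk)
  have hk2 : (k : X ⧸ L) * k = 1 := (QuotientGroup.eq_one_iff (N := L) (k * k)).2 (h.sq k hk)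
  show ((rep v * rep v : X) : X ⧸ L) = _
  simp only [QuotientGroup.mk_mul]
  rw [show ((rep v : X) : X ⧸ L) * k * (((rep v : X) : X ⧸ L) * k) =
      ((rep v : X) : X ⧸ L) * ((k : X ⧸ L) * rep v) * k by group, ← hck,
    show ((rep v : X) : X ⧸ L) * (((rep v : X) : X ⧸ L) * k) * k =
      ((rep v : X) : X ⧸ L) * rep v * ((k : X ⧸ L) * k) by group, hk2, mul_one]

theorem com_eq {c d : X} (hc : c ∈ Q) (hd : d ∈ Q) {v w : img K Q} (hcv : (c : X ⧸ K) = v)
    (hdw : (d : X ⧸ K) = w) :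
    (com S L v w : X ⧸ L) = ((c * d * c⁻¹ * d⁻¹ : X) : X ⧸ L) := by
  obtain ⟨k, hk, rfl⟩ : ∃ k ∈ K, c = rep v * k :=
    ⟨(rep v)⁻¹ * c, QuotientGroup.eq.1 ((mk_rep v).trans hcv.symm), by group⟩
  obtain ⟨l, hl, rfl⟩ : ∃ l ∈ K, d = rep w * l :=
    ⟨(rep w)⁻¹ * d, QuotientGroup.eq.1 ((mk_rep w).trans hdw.symm), by group⟩
  have hkd := mk_comm.1 (h.cen _ hd k hk)
  have hlc := mk_comm.1 (h.cen _ (rep_mem v) l hl)
  show ((rep v * rep w * (rep v)⁻¹ * (rep w)⁻¹ : X) : X ⧸ L) = _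
  simp only [QuotientGroup.mk_mul, QuotientGroup.mk_inv] at hkd ⊢
  rw [show ((rep v : X) : X ⧸ L) * k * (((rep w : X) : X ⧸ L) * l) * (((rep v : X) : X ⧸ L) * k)⁻¹ *
      (((rep w : X) : X ⧸ L) * l)⁻¹ = ((rep v : X) : X ⧸ L) * ((k : X ⧸ L) * (((rep w : X) : X ⧸ L) * l)) *
      (k : X ⧸ L)⁻¹ * ((rep v : X) : X ⧸ L)⁻¹ * (l : X ⧸ L)⁻¹ * ((rep w : X) : X ⧸ L)⁻¹ by group,
    ← hkd, show ((rep v : X) : X ⧸ L) * (((rep w : X) : X ⧸ L) * l * k) * (k : X ⧸ L)⁻¹ *
      ((rep v : X) : X ⧸ L)⁻¹ * (l : X ⧸ L)⁻¹ * ((rep w : X) : X ⧸ L)⁻¹ = ((rep v : X) : X ⧸ L) * rep w *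
      ((l : X ⧸ L) * ((rep v : X) : X ⧸ L)⁻¹) * (l : X ⧸ L)⁻¹ * ((rep w : X) : X ⧸ L)⁻¹ by group,
    show (l : X ⧸ L) * ((rep v : X) : X ⧸ L)⁻¹ = ((rep v : X) : X ⧸ L)⁻¹ * l by
      exact (show Commute (l : X ⧸ L) ((rep v : X) : X ⧸ L) from hlc.symm).inv_right.eq]
  group

theorem sqv_mul (v w : img K Q) : sqv S L (v * w) = com S L v w * sqv S L v * sqv S L w := by
  refine Subtype.ext ?_
  rw [sqv_eq h (mul_mem (rep_mem v) (rep_mem w)) (by
    rw [QuotientGroup.mk_mul, mk_rep, mk_rep]; rfl)]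
  simp only [Subgroup.coe_mul, com, sqv, QuotientGroup.mk_mul, QuotientGroup.mk_inv]
  have hcd := mk_comm.1 (h.cen _ (rep_mem w) _ (S.sq_mem _ (rep_mem v)))
  rw [QuotientGroup.mk_mul] at hcd
  calc ((rep v : X) : X ⧸ L) * rep w * (((rep v : X) : X ⧸ L) * rep w)
      = ((rep v : X) : X ⧸ L) * rep w * ((rep v : X) : X ⧸ L)⁻¹ * ((rep w : X) : X ⧸ L)⁻¹ *
        (((rep w : X) : X ⧸ L) * (((rep v : X) : X ⧸ L) * rep v)) * rep w := by group
    _ = _ := by rw [hcd]; group

theorem com_mul_right (v w u : img K Q) :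
    com S L v (w * u) = com S L v w * com S L v u := by
  refine Subtype.ext ?_
  rw [com_eq h (rep_mem v) (mul_mem (rep_mem w) (rep_mem u)) (mk_rep v) (by
    rw [QuotientGroup.mk_mul, mk_rep, mk_rep]; rfl)]
  simp only [Subgroup.coe_mul, com, QuotientGroup.mk_mul, QuotientGroup.mk_inv]
  have hc := mk_comm.1 (h.cen _ (rep_mem w) _ (S.comm_mem _ (rep_mem v) _ (rep_mem u)))
  simp only [QuotientGroup.mk_mul, QuotientGroup.mk_inv] at hc
  calc ((rep v : X) : X ⧸ L) * (((rep w : X) : X ⧸ L) * rep u) * ((rep v : X) : X ⧸ L)⁻¹ *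
        (((rep w : X) : X ⧸ L) * rep u)⁻¹
      = ((rep v : X) : X ⧸ L) * rep w * ((rep v : X) : X ⧸ L)⁻¹ *
        (((rep v : X) : X ⧸ L) * rep u * ((rep v : X) : X ⧸ L)⁻¹ * ((rep u : X) : X ⧸ L)⁻¹) *
        ((rep w : X) : X ⧸ L)⁻¹ := by group
    _ = ((rep v : X) : X ⧸ L) * rep w * ((rep v : X) : X ⧸ L)⁻¹ * ((rep w : X) : X ⧸ L)⁻¹ *
        (((rep w : X) : X ⧸ L) * (((rep v : X) : X ⧸ L) * rep u * ((rep v : X) : X ⧸ L)⁻¹ * ((rep u : X) : X ⧸ L)⁻¹) *
          ((rep w : X) : X ⧸ L)⁻¹) := by group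
    _ = _ := by rw [hc, mul_inv_cancel_right]

theorem com_symm (v w : img K Q) : com S L w v = com S L v w := by
  have e : com S L v w * com S L w v = 1 := Subtype.ext (by
    simp only [Subgroup.coe_mul, com, QuotientGroup.mk_mul, QuotientGroup.mk_inv, OneMemClass.coe_one]
    group)
  exact (mul_left_cancel (e.trans (h.exp _).symm))

theorem com_self (v : img K Q) : com S L v v = 1 := Subtype.ext (by
  simp only [com, QuotientGroup.mk_mul, QuotientGroup.mk_inv, OneMemClass.coe_one]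
  group)

theorem sqv_one : sqv S L (1 : img K Q) = 1 := Subtype.ext (by
  rw [sqv_eq h (one_mem Q) rfl, mul_one]; rfl)

theorem com_one_right (v : img K Q) : com S L v 1 = 1 := Subtype.ext (by
  rw [com_eq h (rep_mem v) (one_mem Q) (mk_rep v) rfl]
  simp)

theorem sqv_act (a : A5) (v : img K Q) : sqv S L (S.top.quotAct (φ a) v) = sqv S L v := by
  obtain ⟨x, hx⟩ := QuotientGroup.mk_surjective (φ a)
  have hfix : h.quotAct (φ a) (sqv S L v) = sqv S L v :=
    DFunLike.congr_fun (DFunLike.congr_fun (S.trivial_act h) a) _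
  conv_rhs => rw [← hfix, ← hx]
  refine Subtype.ext ?_
  rw [h.quotAct_apply, sqv_eq h (Subgroup.Normal.conj_mem inferInstance _ (rep_mem v) x) (by
    rw [← hx, S.top.quotAct_apply, ← mk_rep v]
    simp)]
  simp only [sqv, QuotientGroup.mk_mul, QuotientGroup.mk_inv]
  group

theorem com_act (a : A5) (v w : img K Q) :
    com S L (S.top.quotAct (φ a) v) (S.top.quotAct (φ a) w) = com S L v w := by
  obtain ⟨x, hx⟩ := QuotientGroup.mk_surjective (φ a)
  have hfix : h.quotAct (φ a) (com S L v w) = com S L v w :=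
    DFunLike.congr_fun (DFunLike.congr_fun (S.trivial_act h) a) _
  conv_rhs => rw [← hfix, ← hx]
  refine Subtype.ext ?_
  rw [h.quotAct_apply, com_eq h (Subgroup.Normal.conj_mem inferInstance _ (rep_mem v) x)
    (Subgroup.Normal.conj_mem inferInstance _ (rep_mem w) x)
    (by rw [← hx, S.top.quotAct_apply, ← mk_rep v]; simp)
    (by rw [← hx, S.top.quotAct_apply, ← mk_rep w]; simp)]
  simp only [com, QuotientGroup.mk_mul, QuotientGroup.mk_inv]
  group

/-- The values of the two maps on the orbit of a non-trivial element. -/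
theorem values (v₀ : img K Q) (hv₀ : v₀ ≠ 1) :
    ∃ (u : Fin 5 → img K Q) (a b b' : img L K), u 0 = v₀ ∧ Function.Injective u ∧
      u 4 = u 0 * u 1 * u 2 * u 3 ∧ u 0 = (u 1 * u 2) * (u 3 * u 4) ∧
      (∀ v ≠ 1, ∃ i, v = u i ∨ v = u i * u (i + 1) ∨ v = u i * u (i + 2)) ∧
      (∀ i, sqv S L (u i) = a) ∧ (∀ i, sqv S L (u i * u (i + 1)) = b) ∧
      (∀ i, sqv S L (u i * u (i + 2)) = b') ∧ (∀ i, com S L (u i) (u (i + 1)) = b) ∧
      (∀ i, com S L (u i) (u (i + 2)) = b') ∧ a = b * b' := by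
  obtain ⟨h5, -, -, hσ⟩ := S.five
  letI := S.top.commGroup
  letI := h.commGroup
  obtain ⟨u, hu0, hsucc, hinj, h4, hall, -⟩ :=
    orbit S.top.exp S.card_top_img (S.top.quotAct (φ rot5)) h5 hσ v₀ hv₀
  have hconst : ∀ (f : Fin 5 → img L K), (∀ i, f (i + 1) = f i) → ∀ i, f i = f 0 := by
    intro f hf i
    fin_cases i
    · rfl
    · exact hf 0
    · exact (hf 1).trans (hf 0)
    · exact (hf 2).trans ((hf 1).trans (hf 0))
    · exact (hf 3).trans ((hf 2).trans ((hf 1).trans (hf 0)))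
  have ha : ∀ i, sqv S L (u i) = sqv S L (u 0) :=
    hconst (fun i => sqv S L (u i)) fun i => by rw [← hsucc, sqv_act h]
  have hb : ∀ i, com S L (u i) (u (i + 1)) = com S L (u 0) (u 1) :=
    hconst (fun i => com S L (u i) (u (i + 1))) fun i => by
      rw [← hsucc i, ← hsucc (i + 1), ← hsucc i, com_act h]
  have hb' : ∀ i, com S L (u i) (u (i + 2)) = com S L (u 0) (u 2) :=
    hconst (fun i => com S L (u i) (u (i + 2))) fun i => by
      rw [show i + 1 + 2 = i + 2 + 1 by abel, ← hsucc i, ← hsucc (i + 2), com_act h]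
  set a := sqv S L (u 0) with haa
  set b := com S L (u 0) (u 1) with hbb
  set b' := com S L (u 0) (u 2) with hbb'
  refine ⟨u, a, b, b', hu0, hinj, h4, ?_, hall, ha, fun i => ?_, fun i => ?_, hb, hb', ?_⟩
  · rw [h4, show u 1 * u 2 * (u 3 * (u 0 * u 1 * u 2 * u 3)) =
      u 0 * ((u 1 * u 2 * u 3) * (u 1 * u 2 * u 3)) by ac_rfl]
    erw [S.top.exp]
    rw [mul_one]
  · rw [sqv_mul h, ha, ha, hb, mul_assoc, h.exp, mul_one]
  · rw [sqv_mul h, ha, ha, hb', mul_assoc, h.exp, mul_one]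
  · have e : sqv S L (u 4) = a := ha 4
    rw [h4, sqv_mul h, sqv_mul h, sqv_mul h, ha, ha, ha,
      com_symm h (u 3) (u 0 * u 1 * u 2), com_symm h (u 2) (u 0 * u 1), com_mul_right h, com_mul_right h,
      com_mul_right h, com_symm h (u 0) (u 2), com_symm h (u 1) (u 2), com_symm h (u 0) (u 3),
      com_symm h (u 1) (u 3), com_symm h (u 2) (u 3)] at e
    have h03 : com S L (u 0) (u 3) = b' := by rw [com_symm h (u 3) (u 0)]; exact hb' 3
    rw [h03, show com S L (u 0) (u 2) = b' from rfl, show com S L (u 1) (u 2) = b from hb 1,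
      show com S L (u 1) (u 3) = b' from hb' 1, show com S L (u 2) (u 3) = b from hb 2,
      show com S L (u 0) (u 1) = b from rfl] at e
    rw [show sqv S L (u 3) = a from ha 3] at e
    have hz : ∀ w : img L K, w * w = 1 := h.exp
    rw [← e]
    have hw : ∀ w z : img L K, w * (w * z) = z := fun w z => by rw [← mul_assoc, hz, one_mul]
    simp only [mul_assoc, mul_comm, mul_left_comm, hz, hw, one_mul]

/-- A central layer of exponent two at the top of `K` has index at most two. -/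
theorem card_le : Nat.card K ≤ 2 * Nat.card L := by
  have h16 := S.card_top_img
  haveI : Nontrivial (img K Q) := Finite.one_lt_card_iff_nontrivial.1 (by omega)
  obtain ⟨v₀, hv₀⟩ := exists_ne (1 : img K Q)
  obtain ⟨u, a, b, b', -, hinj, h4, hu0, hall, ha, hsb, hsb', hb, hb', hab⟩ := values (S := S) h v₀ hv₀
  obtain ⟨w, hw⟩ : ∃ w : img L K, ∀ v, sqv S L v = 1 ∨ sqv S L v = w := by
    letI := h.commGroup
    have hv : ∀ (P : img L K → Prop), P 1 → P a → P b → P b' → ∀ v, P (sqv S L v) := by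
      intro P h1 hPa hPb hPb' v
      by_cases hv1 : v = 1
      · rw [hv1, sqv_one h]; exact h1
      · obtain ⟨i, rfl | rfl | rfl⟩ := hall v hv1
        · rw [ha]; exact hPa
        · rw [hsb]; exact hPb
        · rw [hsb']; exact hPb'
    by_cases hb1 : b = 1
    · exact ⟨b', hv (fun y => y = 1 ∨ y = b') (Or.inl rfl) (Or.inr (by rw [hab, hb1, one_mul])) (Or.inl hb1) (Or.inr rfl)⟩
    by_cases hb'1 : b' = 1
    · exact ⟨b, hv (fun y => y = 1 ∨ y = b) (Or.inl rfl) (Or.inr (by rw [hab, hb'1, mul_one])) (Or.inr rfl) (Or.inl hb'1)⟩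
    by_cases hbb : b' = b
    · exact ⟨b, hv (fun y => y = 1 ∨ y = b) (Or.inl rfl) (Or.inl (by rw [hab, hbb, h.exp])) (Or.inr rfl) (Or.inr hbb)⟩
    exfalso
    have ha1 : a ≠ 1 := fun e => hbb (mul_left_cancel ((hab ▸ e).trans (h.exp b).symm))
    have hne_b : a ≠ b := fun e => hb'1 (mul_eq_left.1 (hab ▸ e))
    have hne_b' : a ≠ b' := fun e => hb1 (mul_eq_right.1 (hab ▸ e))
    set τ := S.top.quotAct (φ rot3) with hτ
    have hperm : ∀ i, ∃ j, τ (u i) = u j := fun i => by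
      have e : sqv S L (τ (u i)) = a := by rw [hτ, sqv_act h, ha]
      have hne : τ (u i) ≠ 1 := fun h1 => ha1 (by rw [← e, h1, sqv_one h])
      obtain ⟨j, hj | hj | hj⟩ := hall _ hne
      · exact ⟨j, hj⟩
      · exact absurd (e.symm.trans (by rw [hj, hsb])) hne_b
      · exact absurd (e.symm.trans (by rw [hj, hsb'])) hne_b'
    choose π hπ using hperm
    have hπi : Function.Injective π := fun i j hij => hinj (τ.injective (by rw [hπ, hπ, hij]))
    have hadj : ∀ i, π (i + 1) - π i = 1 ∨ π (i + 1) - π i = 4 := fun i => by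
      have e : sqv S L (u (π i) * u (π (i + 1))) = b := by
        rw [← hπ, ← hπ, ← map_mul, hτ, sqv_act h, hsb]
      have hd : π (i + 1) = π i + (π (i + 1) - π i) := by abel
      have hne : π (i + 1) - π i ≠ 0 := fun h0 => by
        have := hπi (sub_eq_zero.1 h0)
        exact (by decide : ∀ j : Fin 5, j + 1 ≠ j) i this
      generalize hdd : π (i + 1) - π i = d at hd hne ⊢
      rw [hd] at e
      have key : ∀ d : Fin 5, d = 0 ∨ d = 1 ∨ d = 2 ∨ d = 3 ∨ d = 4 := by decide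
      rcases key d with rfl | rfl | rfl | rfl | rfl
      · exact absurd rfl hne
      · exact Or.inl rfl
      · exact absurd ((hsb' _).symm.trans e) hbb
      · refine absurd ?_ hbb
        letI := S.top.commGroup
        have key3 : ∀ j : Fin 5, j + 3 + 2 = j := by decide
        rw [← e, ← hsb' (π i + 3), key3, mul_comm]
      · exact Or.inr rfl
    have h3 : ∀ i, π (π (π i)) = i := fun i => hinj (by
      rw [← hπ, ← hπ, ← hπ, hτ, ← MulAut.mul_apply, ← MulAut.mul_apply, ← map_mul, ← map_mul,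
        ← map_mul, ← map_mul, mul_assoc, rot3_pow, map_one, map_one]
      rfl)
    have hid := pentagon π hπi hadj h3
    refine rot3_ne (S.act_injective ((MulEquiv.ext fun v => ?_ : τ = 1).trans (map_one _).symm))
    rw [MulAut.one_apply]
    by_cases hv1 : v = 1
    · rw [hv1, map_one]
    · obtain ⟨i, rfl | rfl | rfl⟩ := hall v hv1 <;> simp only [map_mul, hπ, hid]
  have hK : img L K ≤ Subgroup.zpowers (w : X ⧸ L) := Subgroup.map_le_iff_le_comap.2
    (S.gen _ fun q hq => by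
      rw [Subgroup.mem_comap]
      show ((q * q : X) : X ⧸ L) ∈ _
      rw [← sqv_eq (S := S) h hq (v := ⟨_, Subgroup.mem_map_of_mem _ hq⟩) rfl]
      rcases hw ⟨_, Subgroup.mem_map_of_mem _ hq⟩ with e | e <;> rw [e]
      · exact one_mem _
      · exact Subgroup.mem_zpowers _)
  rw [card_img h.le]
  refine Nat.mul_le_mul_right _ ((Subgroup.card_le_of_le hK).trans ?_)
  rw [Nat.card_zpowers]
  refine orderOf_le_of_pow_eq_one two_pos ?_
  rw [pow_two]
  exact congrArg Subtype.val (h.exp w)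

end Cfsg.Agent.RankFourA5
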