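import Cfsg.Agent.Lib.RankFourA5.Orbit
import Mathlib.GroupTheory.SpecificGroups.Alternating
import Mathlib.GroupTheory.SpecificGroups.Alternating.Simple

/-!
The alternating group of degree five acting on the sections of a normal two-subgroup.
-/

set_option autoImplicit false
set_option linter.style.haveILetI false

namespace Cfsg.Agent.RankFourA5

abbrev A5 := ↥(alternatingGroup (Fin 5))

/-- An element of order five. -/
def rot5 : A5 := ⟨finRotate 5, Equiv.Perm.mem_alternatingGroup.2 (by decide +kernel)⟩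

/-- An involution inverting `rot5`. -/
def inv5 : A5 :=
  ⟨Equiv.swap 1 4 * Equiv.swap 2 3, Equiv.Perm.mem_alternatingGroup.2 (by decide +kernel)⟩

/-- An element of order three. -/
def rot3 : A5 :=
  ⟨Equiv.swap 0 1 * Equiv.swap 1 2, Equiv.Perm.mem_alternatingGroup.2 (by decide +kernel)⟩

theorem rot5_pow : rot5 ^ 5 = 1 := by apply Subtype.ext; decide +kernel
theorem rot5_ne : rot5 ≠ 1 := fun h => by
  have h' := congrArg Subtype.val h; revert h'; decide +kernel
theorem inv5_mul : inv5 * inv5 = 1 := by apply Subtype.ext; decide +kernel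
theorem inv5_ne : inv5 ≠ 1 := fun h => by
  have h' := congrArg Subtype.val h; revert h'; decide +kernel
theorem inv5_rel : inv5 * rot5 * inv5 * rot5 = 1 := by apply Subtype.ext; decide +kernel
theorem rot3_pow : rot3 * (rot3 * rot3) = 1 := by apply Subtype.ext; decide +kernel
theorem rot3_ne : rot3 ≠ 1 := fun h => by
  have h' := congrArg Subtype.val h; revert h'; decide +kernel

theorem hom_injective_of_ne_one {N : Type*} [Group N] {f : A5 →* N} (hf : f ≠ 1) :
    Function.Injective f := by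
  haveI : IsSimpleGroup A5 := alternatingGroup.isSimpleGroup (by simp)
  rcases f.normal_ker.eq_bot_or_eq_top with h | h
  · exact (MonoidHom.ker_eq_bot_iff f).1 h
  · exact absurd (MonoidHom.ext fun a => MonoidHom.mem_ker.1 (h ▸ Subgroup.mem_top a)) hf

variable {X : Type*} [Group X] [Finite X]

/-- The image of a subgroup in a quotient. -/
abbrev img (L P : Subgroup X) [L.Normal] : Subgroup (X ⧸ L) := P.map (QuotientGroup.mk' L)

instance img_normal (L P : Subgroup X) [L.Normal] [P.Normal] : (img L P).Normal :=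
  Subgroup.Normal.map inferInstance _ (QuotientGroup.mk'_surjective L)

theorem mk_comm {L : Subgroup X} [L.Normal] {a b : X} :
    a * b * a⁻¹ * b⁻¹ ∈ L ↔ (a : X ⧸ L) * b = b * a := by
  rw [← QuotientGroup.eq_one_iff, QuotientGroup.mk_mul, QuotientGroup.mk_mul, QuotientGroup.mk_mul,
    QuotientGroup.mk_inv, QuotientGroup.mk_inv, mul_inv_eq_one, mul_inv_eq_iff_eq_mul]

theorem card_img {L P : Subgroup X} [L.Normal] (h : L ≤ P) :
    Nat.card P = Nat.card (img L P) * Nat.card L := by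
  set f := (QuotientGroup.mk' L).comp P.subtype
  have hk : f.ker = L.subgroupOf P := by
    ext a
    exact QuotientGroup.eq_one_iff _
  rw [Subgroup.card_eq_card_quotient_mul_card_subgroup f.ker,
    Nat.card_congr (QuotientGroup.quotientKerEquivRange f).toEquiv, hk,
    Nat.card_congr (Subgroup.subgroupOfEquivOfLe h).toEquiv, MonoidHom.range_comp,
    Subgroup.range_subtype]

/-- A section of exponent two centralized by `Q`. -/
structure Sec (Q P L : Subgroup X) : Prop where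
  le : L ≤ P
  inQ : P ≤ Q
  sq : ∀ k ∈ P, k * k ∈ L
  cen : ∀ q ∈ Q, ∀ k ∈ P, q * k * q⁻¹ * k⁻¹ ∈ L

variable {Q P L : Subgroup X} [Q.Normal] [P.Normal] [L.Normal]

theorem Sec.comm (h : Sec Q P L) {q : X} (hq : q ∈ Q) {w : X ⧸ L} (hw : w ∈ img L P) :
    (q : X ⧸ L) * w = w * q := by
  obtain ⟨k, hk, rfl⟩ := hw
  exact mk_comm.1 (h.cen q hq k hk)

theorem Sec.exp (h : Sec Q P L) (w : img L P) : w * w = 1 := by
  obtain ⟨w, k, hk, rfl⟩ := w
  exact Subtype.ext ((QuotientGroup.eq_one_iff (N := L) (k * k)).2 (h.sq k hk))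

/-- The section is abelian. -/
@[instance_reducible] def Sec.commGroup (h : Sec Q P L) : CommGroup (img L P) :=
  { (inferInstance : Group (img L P)) with
    mul_comm := fun a b => Subtype.ext (by
      obtain ⟨a, k, hk, rfl⟩ := a
      exact h.comm (h.inQ hk) b.2) }

/-- The action of the quotient on a section. -/
def Sec.quotAct (h : Sec Q P L) : X ⧸ Q →* MulAut (img L P) :=
  QuotientGroup.lift Q ((MulAut.conjNormal (H := img L P)).comp (QuotientGroup.mk' L))
    fun q hq => MonoidHom.mem_ker.2 (MulEquiv.ext fun w => Subtype.ext (by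
      show ((MulAut.conjNormal ((q : X) : X ⧸ L) w : img L P) : X ⧸ L) = w
      rw [MulAut.conjNormal_apply, h.comm hq w.2, mul_inv_cancel_right]))

theorem Sec.quotAct_apply (h : Sec Q P L) (x : X) (w : img L P) :
    ((h.quotAct (x : X ⧸ Q) w : img L P) : X ⧸ L) = (x : X ⧸ L) * w * (x : X ⧸ L)⁻¹ :=
  MulAut.conjNormal_apply _ _

theorem card_fixed_img (h : Sec Q P L) (x : X) :
    Nat.card ↥(P ⊓ (Subgroup.centralizer {(x : X ⧸ L)}).comap (QuotientGroup.mk' L)) =
      Nat.card (fixed (h.quotAct (x : X ⧸ Q))) * Nat.card L := by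
  set C := P ⊓ (Subgroup.centralizer {(x : X ⧸ L)}).comap (QuotientGroup.mk' L) with hC
  have hL : L ≤ C := le_inf h.le fun l hl => by
    rw [Subgroup.mem_comap, show QuotientGroup.mk' L l = 1 from (QuotientGroup.eq_one_iff l).2 hl]
    exact one_mem _
  rw [card_img hL]
  congr 1
  have himg : img L C = (fixed (h.quotAct (x : X ⧸ Q))).map (img L P).subtype := by
    ext v
    constructor
    · rintro ⟨c, ⟨hcP, hc⟩, rfl⟩
      refine ⟨⟨_, Subgroup.mem_map_of_mem _ hcP⟩, Subtype.ext ?_, rfl⟩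
      rw [h.quotAct_apply]
      have hc' : (x : X ⧸ L) * (c : X ⧸ L) = (c : X ⧸ L) * x :=
        Subgroup.mem_centralizer_iff.1 hc _ rfl
      show (x : X ⧸ L) * (c : X ⧸ L) * (x : X ⧸ L)⁻¹ = (c : X ⧸ L)
      rw [hc', mul_inv_cancel_right]
    · rintro ⟨⟨w, c, hcP, rfl⟩, hw, rfl⟩
      refine ⟨c, ⟨hcP, Subgroup.mem_centralizer_iff.2 fun y hy => ?_⟩, rfl⟩
      rw [Set.mem_singleton_iff.1 hy]
      have := congrArg Subtype.val (mem_fixed.1 hw)
      rw [h.quotAct_apply] at this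
      exact mul_inv_eq_iff_eq_mul.1 this
  rw [himg]
  exact (Nat.card_congr (Subgroup.equivMapOfInjective _ _
    (img L P).subtype_injective).toEquiv).symm

/-- The hypotheses: `K` is the Frattini subgroup of `Q`, of index sixteen, and a copy of the
alternating group of degree five acts faithfully on `Q / K`. -/
structure Setting (Q K : Subgroup X) [Q.Normal] [K.Normal] (φ : A5 →* X ⧸ Q) : Prop where
  pgroup : IsPGroup 2 Q
  le : K ≤ Q
  rank : Cfsg.SectionalPRankLE 2 4 X
  card : Nat.card Q = 16 * Nat.card K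
  sq_mem : ∀ q ∈ Q, q * q ∈ K
  comm_mem : ∀ c ∈ Q, ∀ d ∈ Q, c * d * c⁻¹ * d⁻¹ ∈ K
  gen : ∀ N : Subgroup X, (∀ q ∈ Q, q * q ∈ N) → K ≤ N
  inj : Function.Injective φ
  faith : ∀ x : X, (∀ q ∈ Q, x * q * x⁻¹ * q⁻¹ ∈ K) → x ∈ Q

variable {K : Subgroup X} [K.Normal] {φ : A5 →* X ⧸ Q}

theorem Setting.top (S : Setting Q K φ) : Sec Q Q K :=
  ⟨S.le, le_rfl, S.sq_mem, S.comm_mem⟩

theorem Setting.card_top_img (S : Setting Q K φ) : Nat.card (img K Q) = 16 :=
  mul_right_cancel₀ Nat.card_pos.ne' ((card_img S.le).symm.trans S.card)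

theorem Setting.act_injective (S : Setting Q K φ) :
    Function.Injective (S.top.quotAct.comp φ) := by
  rw [injective_iff_map_eq_one]
  intro a ha
  obtain ⟨x, hx⟩ := QuotientGroup.mk_surjective (φ a)
  have hxQ : x ∈ Q := S.faith x fun q hq => mk_comm.2 (by
    have h := congrArg Subtype.val (DFunLike.congr_fun ha ⟨_, Subgroup.mem_map_of_mem _ hq⟩)
    rw [MonoidHom.comp_apply, ← hx, S.top.quotAct_apply] at h
    exact mul_inv_eq_iff_eq_mul.1 h)
  exact S.inj (by rw [← hx, (QuotientGroup.eq_one_iff x).2 hxQ, map_one])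

theorem Setting.five (S : Setting Q K φ) :
    (S.top.quotAct (φ rot5)) ^ 5 = 1 ∧ S.top.quotAct (φ inv5) * S.top.quotAct (φ inv5) = 1 ∧
      S.top.quotAct (φ inv5) * S.top.quotAct (φ rot5) * S.top.quotAct (φ inv5) *
        S.top.quotAct (φ rot5) = 1 ∧ S.top.quotAct (φ rot5) ≠ 1 := by
  refine ⟨?_, ?_, ?_, fun h => rot5_ne (S.act_injective (h.trans (map_one _).symm))⟩
  · rw [← map_pow, ← map_pow, rot5_pow, map_one, map_one]
  · rw [← map_mul, ← map_mul, inv5_mul, map_one, map_one]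
  · simp only [← map_mul, inv5_rel, map_one]

/-- An element above `inv5` with square in `K`. -/
theorem Setting.exists_invol (S : Setting Q K φ) :
    ∃ x : X, (x : X ⧸ Q) = φ inv5 ∧ x * x ∈ K := by
  letI := S.top.commGroup
  obtain ⟨x₀, hx₀⟩ := QuotientGroup.mk_surjective (φ inv5)
  have hx2 : x₀ * x₀ ∈ Q := (QuotientGroup.eq_one_iff (x₀ * x₀)).1 (by
    rw [QuotientGroup.mk_mul, hx₀, ← map_mul, inv5_mul, map_one])
  obtain ⟨h5, hτ, hrel, hσ⟩ := S.five
  set v : img K Q := ⟨_, Subgroup.mem_map_of_mem (QuotientGroup.mk' K) hx2⟩ with hv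
  have hvfix : S.top.quotAct (φ inv5) v = v := Subtype.ext (by
    rw [← hx₀, S.top.quotAct_apply]
    show (x₀ : X ⧸ K) * ((x₀ * x₀ : X) : X ⧸ K) * (x₀ : X ⧸ K)⁻¹ = ((x₀ * x₀ : X) : X ⧸ K)
    rw [QuotientGroup.mk_mul]; group)
  obtain ⟨b, hb⟩ := (invol_data S.top.exp S.card_top_img _ _ h5 hτ hrel hσ).2 v hvfix
  obtain ⟨b, c, hc, rfl⟩ := b
  refine ⟨c * x₀, by rw [QuotientGroup.mk_mul, (QuotientGroup.eq_one_iff c).2 hc, one_mul, hx₀],
    (QuotientGroup.eq_one_iff _).1 ?_⟩
  have hb' := congrArg Subtype.val hb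
  rw [Subgroup.coe_mul, ← hx₀, S.top.quotAct_apply] at hb'
  have hvv := congrArg Subtype.val (S.top.exp v)
  calc (((c * x₀) * (c * x₀) : X) : X ⧸ K)
      = (c : X ⧸ K) * ((x₀ : X ⧸ K) * c * (x₀ : X ⧸ K)⁻¹) * ((x₀ * x₀ : X) : X ⧸ K) := by
        simp only [QuotientGroup.mk_mul]; group
    _ = 1 := (congrArg (· * ((x₀ * x₀ : X) : X ⧸ K)) hb').trans hvv

/-- The alternating group centralizes every central section of exponent two at the top of `K`. -/
theorem Setting.trivial_act (S : Setting Q K φ) (h : Sec Q K L) : h.quotAct.comp φ = 1 := by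
  by_contra hne
  have hinj := hom_injective_of_ne_one hne
  letI := h.commGroup
  set σ := h.quotAct (φ rot5) with hσdef
  set τ := h.quotAct (φ inv5) with hτdef
  have hσ : σ ≠ 1 := fun e => rot5_ne (hinj (e.trans (map_one _).symm))
  have h4 := four_le_index h.exp σ τ (by rw [hσdef, ← map_pow, ← map_pow, rot5_pow, map_one, map_one])
    (by rw [hτdef, ← map_mul, ← map_mul, inv5_mul, map_one, map_one])
    (by simp only [hσdef, hτdef, ← map_mul, inv5_rel, map_one]) hσ
  obtain ⟨x, hx, hxx⟩ := S.exists_invol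
  set C := Q ⊓ (Subgroup.centralizer {(x : X ⧸ K)}).comap (QuotientGroup.mk' K) with hC
  set F := K ⊓ (Subgroup.centralizer {(x : X ⧸ L)}).comap (QuotientGroup.mk' L) with hF
  have hcC : Nat.card C = 4 * Nat.card K := by
    obtain ⟨h5, hτ, hrel, hσ'⟩ := S.five
    letI := S.top.commGroup
    rw [hC, card_fixed_img S.top x, hx, (invol_data S.top.exp S.card_top_img _ _ h5 hτ hrel hσ').1]
  have hcF : 4 * Nat.card F ≤ Nat.card K := by
    rw [hF, card_fixed_img h x, hx, card_img h.le, ← Subgroup.card_mul_index (fixed τ)]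
    calc 4 * (Nat.card (fixed τ) * Nat.card L) = Nat.card (fixed τ) * 4 * Nat.card L := by ring
      _ ≤ _ := Nat.mul_le_mul_right _ (Nat.mul_le_mul_left _ h4)
  -- conjugation by `x`
  have hxK : ∀ c ∈ C, c⁻¹ * (x * c * x⁻¹) ∈ K := fun c hc => by
    have hc' : (x : X ⧸ K) * c = c * x := Subgroup.mem_centralizer_iff.1 hc.2 _ rfl
    rw [← QuotientGroup.eq_one_iff]
    simp only [QuotientGroup.mk_mul, QuotientGroup.mk_inv]
    rw [hc', mul_inv_cancel_right, inv_mul_cancel]
  have hKC : K ≤ C := le_inf S.le fun k hk => by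
    rw [Subgroup.mem_comap, show QuotientGroup.mk' K k = 1 from (QuotientGroup.eq_one_iff k).2 hk]
    exact one_mem _
  have hconj : ∀ c ∈ C, x * c * x⁻¹ ∈ C := fun c hc => by
    have := mul_mem hc (hKC (hxK c hc))
    rwa [mul_inv_cancel_left] at this
  let M : Subgroup X :=
    { carrier := {m | m ∈ C ∨ m * x⁻¹ ∈ C}
      one_mem' := Or.inl (one_mem _)
      mul_mem' := fun {a b} ha hb => by
        rcases ha with ha | ha <;> rcases hb with hb | hb
        · exact Or.inl (mul_mem ha hb)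
        · refine Or.inr ?_
          rw [mul_assoc]
          exact mul_mem ha hb
        · refine Or.inr ?_
          rw [show a * b * x⁻¹ = a * x⁻¹ * (x * b * x⁻¹) by group]
          exact mul_mem ha (hconj b hb)
        · refine Or.inl ?_
          rw [show a * b = a * x⁻¹ * (x * (b * x⁻¹) * x⁻¹) * (x * x) by group]
          exact mul_mem (mul_mem ha (hconj _ hb)) (hKC hxx)
      inv_mem' := fun {a} ha => by
        rcases ha with ha | ha
        · exact Or.inl (inv_mem ha)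
        · refine Or.inr ?_
          rw [show a⁻¹ * x⁻¹ = (x * x)⁻¹ * (x * (a * x⁻¹)⁻¹ * x⁻¹) by group]
          exact mul_mem (inv_mem (hKC hxx)) (hconj _ (inv_mem ha)) }
  have hxQ : x ∉ Q := fun hxQ => inv5_ne (S.inj (by
    rw [← hx, (QuotientGroup.eq_one_iff x).2 hxQ, map_one]))
  have hcM : 2 * Nat.card C ≤ Nat.card M := by
    rw [two_mul, ← Nat.card_sum]
    refine Nat.card_le_card_of_injective
      (Sum.elim (fun c : C => (⟨c.1, Or.inl c.2⟩ : M))
        (fun c : C => (⟨c.1 * x, Or.inr (by rw [mul_inv_cancel_right]; exact c.2)⟩ : M))) ?_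
    rintro (a | a) (b | b) hab <;> have hab' := congrArg Subtype.val hab <;>
      simp only [Sum.elim_inl, Sum.elim_inr] at hab'
    · exact congrArg Sum.inl (Subtype.ext hab')
    · exact (hxQ (((Subgroup.mul_mem_cancel_left Q b.2.1).1 (hab' ▸ a.2.1)))).elim
    · exact (hxQ (((Subgroup.mul_mem_cancel_left Q a.2.1).1 (hab'.symm ▸ b.2.1)))).elim
    · exact congrArg Sum.inr (Subtype.ext (mul_right_cancel hab'))
  -- images in `X / L`
  have hFmem : ∀ n : X, n ∈ F ↔ n ∈ K ∧ (x : X ⧸ L) * n = n * x := fun n =>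
    ⟨fun hn => ⟨hn.1, Subgroup.mem_centralizer_iff.1 hn.2 _ rfl⟩, fun hn => ⟨hn.1,
      Subgroup.mem_centralizer_iff.2 fun y hy => by rw [Set.mem_singleton_iff.1 hy]; exact hn.2⟩⟩
  have hQK : ∀ q ∈ Q, ∀ k ∈ K, (q : X ⧸ L) * k = k * q := fun q hq k hk =>
    mk_comm.1 (h.cen q hq k hk)
  have hsq : ∀ m ∈ M, m * m ∈ F := by
    have hx2 : x * x ∈ F := (hFmem _).2 ⟨hxx, by rw [QuotientGroup.mk_mul, mul_assoc]⟩
    intro m hm
    rcases hm with hm | hm
    · refine (hFmem _).2 ⟨S.sq_mem m hm.1, ?_⟩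
      have hk := hxK m hm
      set k := m⁻¹ * (x * m * x⁻¹) with hkdef
      have e : (x : X ⧸ L) * m * (x : X ⧸ L)⁻¹ = m * k := by
        simp only [hkdef, QuotientGroup.mk_mul, QuotientGroup.mk_inv]; group
      have hk2 : (k : X ⧸ L) * k = 1 := (QuotientGroup.eq_one_iff (N := L) (k * k)).2 (h.sq k hk)
      rw [QuotientGroup.mk_mul, ← mul_inv_eq_iff_eq_mul]
      calc (x : X ⧸ L) * ((m : X ⧸ L) * m) * (x : X ⧸ L)⁻¹
          = ((x : X ⧸ L) * m * (x : X ⧸ L)⁻¹) * ((x : X ⧸ L) * m * (x : X ⧸ L)⁻¹) := by group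
        _ = (m : X ⧸ L) * ((k : X ⧸ L) * m) * k := by rw [e]; group
        _ = (m : X ⧸ L) * m := by
          rw [← hQK m hm.1 k hk, mul_assoc (m : X ⧸ L), mul_assoc (m : X ⧸ L) k k, hk2, mul_one]
    · obtain ⟨c, hc, rfl⟩ : ∃ c ∈ C, m = c * x := ⟨_, hm, by group⟩
      have hk := hxK c hc
      set k := c⁻¹ * (x * c * x⁻¹) with hkdef
      have e : (x : X ⧸ L) * c * (x : X ⧸ L)⁻¹ = c * k := by
        simp only [hkdef, QuotientGroup.mk_mul, QuotientGroup.mk_inv]; group
      have hk2 : (k : X ⧸ L) * k = 1 := (QuotientGroup.eq_one_iff (N := L) (k * k)).2 (h.sq k hk)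
      have hkF : k ∈ F := (hFmem _).2 ⟨hk, by
        have e2 : (c : X ⧸ L) * k * ((x : X ⧸ L) * k * (x : X ⧸ L)⁻¹) = c := by
          calc (c : X ⧸ L) * k * ((x : X ⧸ L) * k * (x : X ⧸ L)⁻¹)
              = (x : X ⧸ L) * ((c : X ⧸ L) * k) * (x : X ⧸ L)⁻¹ := by
                conv_lhs => rw [← e]
                group
            _ = ((x : X ⧸ L) * x) * c * ((x : X ⧸ L) * x)⁻¹ := by rw [← e]; group
            _ = c := by rw [← QuotientGroup.mk_mul, ← hQK c hc.1 _ hxx, mul_inv_cancel_right]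
        rw [mul_assoc, mul_eq_left] at e2
        rw [← mul_inv_eq_iff_eq_mul]
        exact mul_left_cancel (e2.trans hk2.symm)⟩
      rw [show c * x * (c * x) = c * c * k * (x * x) by rw [hkdef]; group]
      refine mul_mem (mul_mem ?_ hkF) hx2
      refine (hFmem _).2 ⟨S.sq_mem c hc.1, ?_⟩
      rw [QuotientGroup.mk_mul, ← mul_inv_eq_iff_eq_mul]
      calc (x : X ⧸ L) * ((c : X ⧸ L) * c) * (x : X ⧸ L)⁻¹
          = ((x : X ⧸ L) * c * (x : X ⧸ L)⁻¹) * ((x : X ⧸ L) * c * (x : X ⧸ L)⁻¹) := by group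
        _ = (c : X ⧸ L) * ((k : X ⧸ L) * c) * k := by rw [e]; group
        _ = (c : X ⧸ L) * c := by
          rw [← hQK c hc.1 k hk, mul_assoc (c : X ⧸ L), mul_assoc (c : X ⧸ L) k k, hk2, mul_one]
  have hFM : F ≤ M := fun n hn => Or.inl (hKC hn.1)
  have hn : ∀ m ∈ M, ∀ f ∈ F, m * f * m⁻¹ ∈ F := fun m hm f hf => by
    obtain ⟨hfK, hfx⟩ := (hFmem f).1 hf
    have hm' : (m : X ⧸ L) * f = f * m := by
      rcases hm with hm | hm
      · exact hQK m hm.1 f hfK
      · rw [show m = m * x⁻¹ * x by group, QuotientGroup.mk_mul, mul_assoc, hfx, ← mul_assoc,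
          hQK _ hm.1 f hfK, mul_assoc]
    refine (hFmem _).2 ⟨Subgroup.Normal.conj_mem inferInstance f hfK m, ?_⟩
    rw [show ((m * f * m⁻¹ : X) : X ⧸ L) = f by
      rw [QuotientGroup.mk_mul, QuotientGroup.mk_mul, QuotientGroup.mk_inv, hm', mul_inv_cancel_right]]
    exact hfx
  have := card_section_le S.rank M F hFM hn hsq
  have := (Nat.card_pos : 0 < Nat.card F)
  omega

end Cfsg.Agent.RankFourA5
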